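import Groth.Agent.Lib.AffAlgBij.Basic
import Mathlib.AlgebraicGeometry.Morphisms.UnderlyingMap
import Mathlib.AlgebraicGeometry.Gluing

/-!
# Factoring through a closed surjection with `O = π_* O`
-/

set_option autoImplicit false
universe u

open CategoryTheory CategoryTheory.Limits AlgebraicGeometry TopologicalSpace Opposite

noncomputable section

namespace Groth.Agent.Lib.Contraction

variable {V C' C : Scheme.{u}}

theorem hom_ext_affine {Z Z' : Scheme.{u}} [IsAffine Z'] {a b : Z ⟶ Z'} (h : a.appTop = b.appTop) : a = b := by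
  rw [← cancel_mono Z'.toSpecΓ, Scheme.toSpecΓ_naturality, Scheme.toSpecΓ_naturality, h]

/-- A surjection along which functions pull back injectively is an epimorphism. -/
theorem ext_of_app_injective (π : V ⟶ C') (hs : Function.Surjective π.base)
    (hc : ∀ O : C'.Opens, Function.Injective (π.app O).hom) {a b : C' ⟶ C} (h : π ≫ a = π ≫ b) : a = b := by
  have hpt : ∀ z : C', a z = b z := fun z => by
    obtain ⟨v, rfl⟩ := hs z
    exact congr($h v)
  choose W hW hzW _ using fun z : C' => exists_isAffineOpen_mem_and_subset (X := C) (x := a z) (U := ⊤) trivial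
  refine (C'.openCoverOfIsOpenCover (fun z => a ⁻¹ᵁ W z)
    (IsOpenCover.mk (top_le_iff.1 fun z _ => Opens.mem_iSup.2 ⟨z, hzW z⟩))).hom_ext _ _ fun z => ?_
  change (a ⁻¹ᵁ W z).ι ≫ a = (a ⁻¹ᵁ W z).ι ≫ b
  haveI : IsAffine (W z : Scheme.{u}) := hW z
  have eb : a ⁻¹ᵁ W z ≤ b ⁻¹ᵁ W z := fun w hw => by
    change b w ∈ W z
    rw [← hpt w]; exact hw
  rw [← Scheme.Hom.resLE_comp_ι a le_rfl, ← Scheme.Hom.resLE_comp_ι b eb]
  congr 1
  refine hom_ext_affine ?_
  rw [Scheme.Hom.appTop, Scheme.Hom.appTop, Scheme.Hom.resLE_app_top, Scheme.Hom.resLE_app_top]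
  congr 2
  refine CommRingCat.hom_ext (RingHom.ext fun c => hc (a ⁻¹ᵁ W z) ?_)
  have e1 : π ⁻¹ᵁ (a ⁻¹ᵁ W z) ≤ (π ≫ b) ⁻¹ᵁ W z := π.preimage_mono eb
  calc (π.app (a ⁻¹ᵁ W z)).hom ((a.appLE (W z) (a ⁻¹ᵁ W z) le_rfl).hom c)
      = ((π ≫ a).appLE (W z) (π ⁻¹ᵁ (a ⁻¹ᵁ W z)) le_rfl).hom c := by
        rw [← Scheme.Hom.appLE_comp_appLE π a (W z) (a ⁻¹ᵁ W z) _ le_rfl le_rfl, Scheme.Hom.appLE_eq_app π]
        rfl
    _ = ((π ≫ b).appLE (W z) (π ⁻¹ᵁ (a ⁻¹ᵁ W z)) e1).hom c := by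
        simp only [h]
    _ = (π.app (a ⁻¹ᵁ W z)).hom ((b.appLE (W z) (a ⁻¹ᵁ W z) eb).hom c) := by
        rw [← Scheme.Hom.appLE_comp_appLE π b (W z) (a ⁻¹ᵁ W z) _ eb le_rfl, Scheme.Hom.appLE_eq_app π]
        rfl

/-- Morphisms constant on the fibres of a closed surjection with `O = π_* O` factor through it. -/
theorem exists_factor (π : V ⟶ C') (hs : Function.Surjective π.base) (hcl : IsClosedMap π.base)
    (hc : ∀ O : C'.Opens, Function.Bijective (π.app O).hom) (q : V ⟶ C)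
    (hfib : ∀ v v' : V, π v = π v' → q v = q v') : ∃ u : C' ⟶ C, π ≫ u = q := by
  choose v hv using hs
  choose W hW hzW _ using fun z : C' => exists_isAffineOpen_mem_and_subset (X := C) (x := q (v z)) (U := ⊤) trivial
  let O : C' → C'.Opens := fun z =>
    ⟨(π.base '' ((q ⁻¹ᵁ W z : V.Opens) : Set V)ᶜ)ᶜ, (hcl _ (q ⁻¹ᵁ W z).isOpen.isClosed_compl).isOpen_compl⟩
  have hOq : ∀ z, π ⁻¹ᵁ O z ≤ q ⁻¹ᵁ W z := fun z w hw => by_contra fun hn => hw ⟨w, hn, rfl⟩
  have hmem : ∀ z, z ∈ O z := fun z => by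
    rintro ⟨w, hw, hwz⟩
    exact hw (show q w ∈ W z from (hfib w (v z) (hwz.trans (hv z).symm)) ▸ hzW z)
  have hloc : ∀ z, ∃ u : (O z : Scheme.{u}) ⟶ C, (π ∣_ O z) ≫ u = (π ⁻¹ᵁ O z).ι ≫ q := fun z => by
    haveI : IsAffine (W z : Scheme.{u}) := hW z
    haveI : IsIso (π.app (O z)) := (ConcreteCategory.isIso_iff_bijective _).2 (hc _)
    let ψ := q.appLE (W z) (π ⁻¹ᵁ O z) (hOq z) ≫ inv (π.app (O z))
    obtain ⟨h, hh⟩ := AffAlgBij.exists_hom_of_appTop (T := (O z : Scheme.{u}))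
      ((W z).topIso.hom ≫ ψ ≫ (O z).topIso.inv)
    refine ⟨h ≫ (W z).ι, ?_⟩
    rw [← Category.assoc, ← Scheme.Hom.resLE_comp_ι q (hOq z)]
    congr 1
    refine hom_ext_affine ?_
    rw [Scheme.Hom.comp_appTop, hh, ← Scheme.Hom.resLE_eq_morphismRestrict, Scheme.Hom.appTop, Scheme.Hom.appTop,
      Scheme.Hom.resLE_app_top, Scheme.Hom.resLE_app_top, Scheme.Hom.appLE_eq_app π]
    simp only [ψ, Category.assoc, Iso.inv_hom_id_assoc, IsIso.inv_hom_id_assoc]
  choose u hu using hloc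
  let 𝒰 := C'.openCoverOfIsOpenCover O (IsOpenCover.mk (top_le_iff.1 fun z _ => Opens.mem_iSup.2 ⟨z, hmem z⟩))
  have hglue : ∀ z z' : C', pullback.fst (O z).ι (O z').ι ≫ u z = pullback.snd (O z).ι (O z').ι ≫ u z' := by
    intro z z'
    let k := pullback.fst (O z).ι (O z').ι ≫ (O z).ι
    let R := k.opensRange
    let e := morphismRestrictOpensRange π k
    have hRs : Function.Surjective (pullback.snd π k).base := fun w => by
      obtain ⟨v₀, hv₀⟩ : ∃ v₀, π v₀ = k w := ⟨_, hv _⟩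
      obtain ⟨t, -, ht⟩ := Scheme.Pullback.exists_preimage_pullback v₀ w hv₀
      exact ⟨t, ht⟩
    have hsq : (π ∣_ R) ≫ e.hom.right = e.hom.left ≫ pullback.snd π k := e.hom.w.symm
    haveI : IsIso e.hom.right := inferInstance
    rw [← cancel_epi e.hom.right]
    refine ext_of_app_injective (π ∣_ R) ?_ (fun U => ?_) ?_
    · intro w
      obtain ⟨v₀, hv₀⟩ : ∃ v₀, π v₀ = w.1 := ⟨_, hv _⟩
      refine ⟨⟨v₀, show π v₀ ∈ R from hv₀ ▸ w.2⟩, Subtype.ext ?_⟩
      exact (morphismRestrict_base_coe π R _).trans hv₀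
    · rw [morphismRestrict_app]
      exact (ConcreteCategory.bijective_of_isIso
        (V.presheaf.map (eqToHom (image_morphismRestrict_preimage π R U)).op)).1.comp (hc (R.ι ''ᵁ U)).1
    · rw [reassoc_of% hsq, reassoc_of% hsq]
      -- both sides restrict to `q`
      have key : ∀ (a : C') (l : pullback (O z).ι (O z').ι ⟶ (O a : Scheme.{u})), l ≫ (O a).ι = k →
          pullback.snd π k ≫ l ≫ u a = pullback.fst π k ≫ q := by
        intro a l hl
        have hle : Set.range (pullback.fst π k).base ⊆ ((π ⁻¹ᵁ O a : V.Opens) : Set V) := by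
          rintro _ ⟨w, rfl⟩
          change π (pullback.fst π k w) ∈ O a
          rw [show π (pullback.fst π k w) = (O a).ι (l (pullback.snd π k w)) from
            (congr($(pullback.condition (f := π) (g := k)) w)).trans congr($(hl.symm) (pullback.snd π k w))]
          exact (l (pullback.snd π k w)).2
        let m := IsOpenImmersion.lift (π ⁻¹ᵁ O a).ι (pullback.fst π k) (by rw [Scheme.Opens.range_ι]; exact hle)
        have hm : m ≫ (π ⁻¹ᵁ O a).ι = pullback.fst π k := IsOpenImmersion.lift_fac _ _ _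
        have h1 : pullback.snd π k ≫ l = m ≫ (π ∣_ O a) := by
          rw [← cancel_mono (O a).ι, Category.assoc, hl, Category.assoc, morphismRestrict_ι, reassoc_of% hm,
            pullback.condition]
        rw [reassoc_of% h1, hu a, reassoc_of% hm]
      rw [key z (pullback.fst _ _) rfl, key z' (pullback.snd _ _) pullback.condition.symm]
  refine ⟨𝒰.glueMorphisms u hglue, ?_⟩
  refine (V.openCoverOfIsOpenCover (fun z => π ⁻¹ᵁ O z)
    (IsOpenCover.mk (top_le_iff.1 fun w _ => Opens.mem_iSup.2 ⟨π w, hmem (π w)⟩))).hom_ext _ _ fun z => ?_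
  change (π ⁻¹ᵁ O z).ι ≫ π ≫ _ = (π ⁻¹ᵁ O z).ι ≫ q
  rw [← morphismRestrict_ι_assoc]
  erw [𝒰.ι_glueMorphisms]
  exact hu z

end Groth.Agent.Lib.Contraction
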