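import Groth.Agent.Lib.Contraction.Proper
import Groth.Agent.Lib.Contraction.Factor

/-!
# The canonical contraction for `p_* O_X = O_Y`
-/

set_option autoImplicit false
universe u

open CategoryTheory CategoryTheory.Limits AlgebraicGeometry TopologicalSpace Opposite
open Groth.Agent.Lib.ProjQ Groth.Agent.Lib.ProjQ.SecAlg

noncomputable section

namespace Groth.Agent.Lib.Contraction

theorem surjective_of_isIso_c {X Y : Scheme.{u}} (p : X ⟶ Y) [UniversallyClosed p] (h : IsIso p.c) :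
    Function.Surjective p.base := by
  intro y
  by_contra hy
  let Z : Y.Opens := ⟨(Set.range p.base)ᶜ, p.isClosedMap.isClosed_range.isOpen_compl⟩
  haveI : IsIso (p.app Z) := inferInstanceAs (IsIso (p.c.app (op Z)))
  have hbot : p ⁻¹ᵁ Z = ⊥ := le_bot_iff.1 fun x hx => (hx ⟨x, rfl⟩ : False)
  have h1 : (p.app Z).hom 1 = (p.app Z).hom 0 := by
    haveI : Subsingleton Γ(X, p ⁻¹ᵁ Z) := by rw [hbot]; infer_instance
    exact Subsingleton.elim _ _
  have h2 := congrArg (Y.presheaf.germ Z y hy).hom ((ConcreteCategory.bijective_of_isIso (p.app Z)).1 h1)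
  rw [map_one, map_zero] at h2
  exact one_ne_zero h2

theorem bijective_app_of_affine {V C : Scheme.{u}} (q : V ⟶ C)
    (h : ∀ (W : C.Opens), ∀ x ∈ W, ∃ B : C.Opens, x ∈ B ∧ B ≤ W ∧ Function.Bijective (q.app B).hom)
    (O : C.Opens) : Function.Bijective (q.app O).hom := by
  have hinj : ∀ O : C.Opens, Function.Injective (q.app O).hom := fun O => by
    choose B hxB hle hB using fun x : O => h O x.1 x.2
    refine (injective_iff_map_eq_zero _).2 fun c hc => ?_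
    refine TopCat.Sheaf.eq_of_locally_eq' C.sheaf B O (fun x => homOfLE (hle x))
      (fun x hx => Opens.mem_iSup.2 ⟨⟨x, hx⟩, hxB ⟨x, hx⟩⟩) _ _ fun x => ?_
    refine Eq.trans ?_ (map_zero _).symm
    refine (hB x).1 ((congr($(q.naturality (homOfLE (hle x)).op) c)).trans ?_)
    refine Eq.trans ?_ (map_zero _).symm
    change (V.presheaf.map _).hom ((q.app O).hom c) = 0
    rw [hc, map_zero]
  refine ⟨hinj O, fun z => ?_⟩
  choose B hxB hle hB using fun x : O => h O x.1 x.2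
  choose c hc using fun x : O => (hB x).2 ((V.presheaf.map (homOfLE (q.preimage_mono (hle x))).op).hom z)
  obtain ⟨s, hs, -⟩ := TopCat.Sheaf.existsUnique_gluing' C.sheaf B O (fun x => homOfLE (hle x))
    (fun x hx => Opens.mem_iSup.2 ⟨⟨x, hx⟩, hxB ⟨x, hx⟩⟩) c fun x y => hinj _ (by
      refine (congr($(q.naturality (homOfLE (inf_le_left : B x ⊓ B y ≤ B x)).op) (c x))).trans ?_
      refine Eq.trans ?_ (congr($(q.naturality (homOfLE (inf_le_right : B x ⊓ B y ≤ B y)).op) (c y))).symm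
      change (V.presheaf.map _).hom ((q.app (B x)).hom (c x)) = (V.presheaf.map _).hom ((q.app (B y)).hom (c y))
      rw [hc x, hc y]
      change (V.presheaf.map _ ≫ V.presheaf.map _).hom z = (V.presheaf.map _ ≫ V.presheaf.map _).hom z
      rw [← Functor.map_comp, ← Functor.map_comp]
      rfl)
  refine ⟨s, TopCat.Sheaf.eq_of_locally_eq' V.sheaf (fun x => q ⁻¹ᵁ B x) _
    (fun x => homOfLE (q.preimage_mono (hle x)))
    (fun v hv => Opens.mem_iSup.2 ⟨⟨q v, hv⟩, hxB ⟨q v, hv⟩⟩) _ _ fun x => ?_⟩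
  refine (congr($(q.naturality (homOfLE (hle x)).op) s)).symm.trans ?_
  change (q.app (B x)).hom ((C.presheaf.map _).hom s) = _
  rw [show (C.presheaf.map (homOfLE (hle x)).op).hom s = c x from hs x]
  exact hc x

theorem algHom_id {X S : Scheme.{u}} (f : X ⟶ S) [QuasiCompact f] [QuasiSeparated f] :
    QCAlgPush.ofHom f f (𝟙 X) (Category.id_comp f) = 𝟙 _ := by
  refine RelSpec.QCAlg.hom_ext (NatTrans.ext (funext fun U => ?_))
  obtain ⟨U⟩ := U
  refine (AffAlgBij.algHom_app (𝟙 X) (Category.id_comp f) U).trans ?_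
  simp [Scheme.Hom.appLE]
  erw [Category.id_comp]
  exact X.presheaf.map_id _

variable {X Y : Scheme.{u}} (p : X ⟶ Y) [IsProper p] (hθ : IsIso p.c)
  {L : X.Modules} (hL : PicF.IsInvertible L) (hLq : Coh.IsQCoh L) {𝒜 : RelProj.QCGrAlg X} {jL : L ⟶ 𝒜.toModule}
  (hA : RelProj.IsGrSymAlg L 𝒜 jL) {aug : 𝒜.toQCAlg ⟶ RelSpec.QCAlg.unit X}
  (haug : RelCone.IsAugmentation 𝒜 aug) {j0 : X ⟶ 𝒜.toQCAlg.spec} (hj0 : RelCone.IsVertex 𝒜 aug j0)

include hθ in
theorem isIso_pairsSnd : IsIso (pairsSnd p (str p 𝒜) j0 (comp_str p hj0)).hom := by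
  haveI : ∀ U : (Opens Y.carrier)ᵒᵖ, IsIso ((pairsSnd p (str p 𝒜) j0 (comp_str p hj0)).hom.app U) := fun U => by
    refine (ConcreteCategory.isIso_iff_bijective _).2 ?_
    haveI : IsIso (p.app U.unop) := inferInstanceAs (IsIso (p.c.app U))
    refine ⟨fun x y h => Subtype.ext (Prod.ext ?_ h), fun r => ?_⟩
    · refine (ConcreteCategory.bijective_of_isIso (p.app U.unop)).1 ((mem_pairs.1 x.2).trans ?_)
      rw [show x.1.2 = y.1.2 from h]
      exact (mem_pairs.1 y.2).symm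
    · obtain ⟨a, ha⟩ := (ConcreteCategory.bijective_of_isIso (p.app U.unop)).2
        (jres p (str p 𝒜) j0 (comp_str p hj0) U.unop r)
      exact ⟨⟨(a, r), mem_pairs.2 ha⟩, rfl⟩
  exact NatIso.isIso_of_isIso_app _

variable {q' : 𝒜.toQCAlg.spec ⟶ (RelSpec.QCAlg.directImage (str p 𝒜)).spec}
  (hq'π : q' ≫ (RelSpec.QCAlg.directImage (str p 𝒜)).π = str p 𝒜)
  (hq' : AffAlg.algHom (RelSpec.QCAlg.directImage (str p 𝒜)).π (str p 𝒜) q' hq'π =
    (RelSpec.QCAlg.directImage (str p 𝒜)).gammaMap)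

include hθ hq' in
/-- With `p_* O_X = O_Y` the cone is the spectrum of the direct image. -/
theorem exists_iso_cone :
    ∃ φ : cone p (str p 𝒜) j0 (comp_str p hj0) ≅ (RelSpec.QCAlg.directImage (str p 𝒜)).spec,
      φ.hom ≫ (RelSpec.QCAlg.directImage (str p 𝒜)).π = coneProj p (str p 𝒜) j0 (comp_str p hj0) ∧
      coneMap p (str p 𝒜) j0 (comp_str p hj0) ≫ φ.hom = q' := by
  let A := pairsAlg p (str p 𝒜) j0 (comp_str p hj0)
  let B := RelSpec.QCAlg.directImage (str p 𝒜)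
  let s : A ⟶ B := pairsSnd p (str p 𝒜) j0 (comp_str p hj0)
  haveI := isIso_pairsSnd p hθ hj0
  let si : B ⟶ A := ⟨inv s.hom, by rw [IsIso.comp_inv_eq]; exact s.comm.symm⟩
  have hs : si ≫ s = 𝟙 B := RelSpec.QCAlg.hom_ext (IsIso.inv_hom_id s.hom)
  have hs' : s ≫ si = 𝟙 A := RelSpec.QCAlg.hom_ext (IsIso.hom_inv_id s.hom)
  let gA := QCAlgPush.gammaIso A
  let gB := QCAlgPush.gammaIso B
  obtain ⟨h1, w1, e1⟩ := QCAlgPush.ofHom_surjective (f := B.π) (g := A.π) (gB.hom ≫ si ≫ gA.inv)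
  obtain ⟨h2, w2, e2⟩ := QCAlgPush.ofHom_surjective (f := A.π) (g := B.π) (gA.hom ≫ s ≫ gB.inv)
  have i1 : h1 ≫ h2 = 𝟙 _ := QCAlgPush.ofHom_injective (f := A.π) (g := A.π)
    (w₁ := by rw [Category.assoc, w2, w1]) (w₂ := Category.id_comp _) <| by
      rw [← QCAlgPush.ofHom_comp h2 w2 h1 w1, e1, e2, algHom_id]
      simp only [Category.assoc, Iso.inv_hom_id_assoc]
      rw [reassoc_of% hs', Iso.hom_inv_id]
  have i2 : h2 ≫ h1 = 𝟙 _ := QCAlgPush.ofHom_injective (f := B.π) (g := B.π)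
    (w₁ := by rw [Category.assoc, w1, w2]) (w₂ := Category.id_comp _) <| by
      rw [← QCAlgPush.ofHom_comp h1 w1 h2 w2, e1, e2, algHom_id]
      simp only [Category.assoc, Iso.inv_hom_id_assoc]
      rw [reassoc_of% hs, Iso.hom_inv_id]
  refine ⟨⟨h1, h2, i1, i2⟩, w1, ?_⟩
  refine QCAlgPush.ofHom_injective (f := B.π) (g := str p 𝒜)
    (w₁ := by rw [Category.assoc, w1, coneMap_proj]) (w₂ := hq'π) ?_
  rw [← QCAlgPush.ofHom_comp h1 w1 _ (coneMap_proj p (str p 𝒜) j0 (comp_str p hj0)), e1]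
  rw [show QCAlgPush.ofHom A.π (str p 𝒜) (coneMap p (str p 𝒜) j0 (comp_str p hj0)) (coneMap_proj _ _ _ _) =
    gA.hom ≫ s from RelSpec.QCAlg.hom_ext (coneMap_algHom _ _ _ _)]
  simp only [Category.assoc, Iso.inv_hom_id_assoc]
  rw [hs, Category.comp_id]
  exact RelSpec.QCAlg.hom_ext hq'.symm

include hq' in
theorem bijective_app_canonical (O : (RelSpec.QCAlg.directImage (str p 𝒜)).spec.Opens) :
    Function.Bijective (q'.app O).hom := by
  refine bijective_app_of_affine q' (fun W x hx => ?_) O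
  let π' := (RelSpec.QCAlg.directImage (str p 𝒜)).π
  obtain ⟨U, hU, hxU, -⟩ := exists_isAffineOpen_mem_and_subset (X := Y) (x := π' x) (U := ⊤) trivial
  have hO : IsAffineOpen (π' ⁻¹ᵁ U) := hU.preimage π'
  obtain ⟨e, heW, hxe⟩ := hO.exists_basicOpen_le (V := W) ⟨x, hx⟩ hxU
  refine ⟨_, hxe, heW, ?_⟩
  have hO' : q' ⁻¹ᵁ (π' ⁻¹ᵁ U) = str p 𝒜 ⁻¹ᵁ U := by rw [← Scheme.Hom.comp_preimage, hq'π]
  have hb : Function.Bijective (q'.appLE (π' ⁻¹ᵁ U) (str p 𝒜 ⁻¹ᵁ U) (AffAlgBij.le_preimage q' hq'π U)).hom := by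
    rw [← AffAlgBij.algHom_app q' hq'π U, hq']
    haveI := RelSpecBasics.Gamma.isIso_gammaMap (RelSpec.QCAlg.directImage (str p 𝒜))
    exact ConcreteCategory.bijective_of_isIso ((RelSpec.QCAlg.directImage (str p 𝒜)).gammaMap.app (op U))
  refine bijective_app_basicOpen q' hO hO' ((str p 𝒜).isCompact_preimage hU.isCompact)
    ((str p 𝒜).isQuasiSeparated_preimage hU.isQuasiSeparated) e (fun y hy => ?_) (fun r => hb.2 _)
  rw [(injective_iff_map_eq_zero _).1 hb.1 y hy, mul_zero]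

include hθ hq' hL hLq hA haug hj0 in
/-- The properties of the canonical contraction. -/
theorem exists_canonical (hamp : RelAmple.IsRelAmple p L) :
    IsProper q' ∧ Function.Surjective q'.base ∧
    ∃ ε' : Y ⟶ (RelSpec.QCAlg.directImage (str p 𝒜)).spec,
      ε' ≫ (RelSpec.QCAlg.directImage (str p 𝒜)).π = 𝟙 Y ∧ j0 ≫ q' = p ≫ ε' ∧
      ∀ (V0 : 𝒜.toQCAlg.spec.Opens), (V0 : Set 𝒜.toQCAlg.spec) = (Set.range j0.base)ᶜ →
        IsOpenImmersion (V0.ι ≫ q') ∧ Set.range (V0.ι ≫ q').base = (Set.range ε'.base)ᶜ := by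
  obtain ⟨φ, hφ, hφq⟩ := exists_iso_cone p hθ hj0 hq'π hq'
  haveI := isProper_coneMap hL hLq hA haug hj0 p hamp
  have hprop : IsProper q' := by rw [← hφq]; infer_instance
  have hj : j0 ≫ q' = p ≫ coneVertex p (str p 𝒜) j0 (comp_str p hj0) ≫ φ.hom := by
    rw [← hφq, reassoc_of% comp_coneMap p (str p 𝒜) j0 (comp_str p hj0)]
  have hrest : ∀ (V0 : 𝒜.toQCAlg.spec.Opens), (V0 : Set 𝒜.toQCAlg.spec) = (Set.range j0.base)ᶜ →
      IsOpenImmersion (V0.ι ≫ q') ∧ Set.range (V0.ι ≫ q').base =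
        (Set.range (coneVertex p (str p 𝒜) j0 (comp_str p hj0) ≫ φ.hom).base)ᶜ := by
    intro V0 hV0
    obtain ⟨h1, -, -⟩ := contraction p hL hLq hA haug hj0 hamp V0 hV0
    have h2 := range_contraction hL hLq hA haug hj0 p hamp V0 hV0
    haveI := h1
    refine ⟨by rw [← hφq, ← Category.assoc]; infer_instance, ?_⟩
    rw [← hφq, ← Category.assoc, Scheme.Hom.comp_base, TopCat.coe_comp, Set.range_comp,
      Scheme.Hom.comp_base (coneVertex _ _ _ _) φ.hom, TopCat.coe_comp, Set.range_comp, h2]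
    exact Set.image_compl_eq φ.hom.homeomorph.bijective
  refine ⟨hprop, fun c => ?_, _, by rw [Category.assoc, hφ, coneVertex_proj], hj, hrest⟩
  by_cases hc : c ∈ Set.range (coneVertex p (str p 𝒜) j0 (comp_str p hj0) ≫ φ.hom).base
  · obtain ⟨y, rfl⟩ := hc
    obtain ⟨x, rfl⟩ := surjective_of_isIso_c p hθ y
    exact ⟨j0 x, congr($hj x)⟩
  · let V0 : 𝒜.toQCAlg.spec.Opens := ⟨(Set.range j0.base)ᶜ, by
      haveI : IsClosedImmersion j0 := by
        haveI : IsClosedImmersion (j0 ≫ 𝒜.toQCAlg.π) := by rw [hj0.comp_π]; infer_instance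
        exact IsClosedImmersion.of_comp j0 𝒜.toQCAlg.π
      exact j0.isClosedEmbedding.isClosed_range.isOpen_compl⟩
    obtain ⟨v, hv⟩ := (hrest V0 rfl).2.ge hc
    exact ⟨v.1, hv⟩

end Groth.Agent.Lib.Contraction
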