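import Mathlib.AlgebraicGeometry.AffineScheme
import Mathlib.AlgebraicGeometry.GammaSpecAdjunction

/-!
# Values of sections along morphisms out of affine spectra
-/

set_option autoImplicit false
universe u

open CategoryTheory AlgebraicGeometry TopologicalSpace Opposite

noncomputable section

namespace Groth.Agent.Lib.Contraction

variable {Z Z' : Scheme.{u}} {R R' : CommRingCat.{u}}

/-- The value in `R` of a section over an open containing the image of `Spec R`. -/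
def ev (h : Spec R ⟶ Z) (O : Z.Opens) (e : ⊤ ≤ h ⁻¹ᵁ O) : Γ(Z, O) ⟶ R :=
  h.appLE O ⊤ e ≫ (Scheme.ΓSpecIso R).hom

theorem ev_congr {h h' : Spec R ⟶ Z} (eq : h = h') (O : Z.Opens) (e : ⊤ ≤ h ⁻¹ᵁ O) :
    ev h O e = ev h' O (eq ▸ e) := by
  subst eq; rfl

theorem ev_res (h : Spec R ⟶ Z) {O O' : Z.Opens} (hle : O' ≤ O) (e : ⊤ ≤ h ⁻¹ᵁ O') :
    Z.presheaf.map (homOfLE hle).op ≫ ev h O' e = ev h O (e.trans (h.preimage_mono hle)) := by
  rw [ev, ← Category.assoc, Scheme.Hom.map_appLE]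
  rfl

theorem ev_res_apply (h : Spec R ⟶ Z) {O O' : Z.Opens} (hle : O' ≤ O) (e : ⊤ ≤ h ⁻¹ᵁ O') (z : Γ(Z, O)) :
    ev h O' e ((Z.presheaf.map (homOfLE hle).op).hom z) = ev h O (e.trans (h.preimage_mono hle)) z :=
  congr($(ev_res h hle e) z)

theorem ev_comp (g : Z ⟶ Z') (h : Spec R ⟶ Z) {O : Z'.Opens} {O' : Z.Opens} (e' : O' ≤ g ⁻¹ᵁ O)
    (e : ⊤ ≤ h ⁻¹ᵁ O') :
    ev (h ≫ g) O (e.trans (h.preimage_mono e')) = g.appLE O O' e' ≫ ev h O' e := by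
  rw [ev, ev, ← Category.assoc, Scheme.Hom.appLE_comp_appLE]

theorem ev_comp_apply (g : Z ⟶ Z') (h : Spec R ⟶ Z) {O : Z'.Opens} {O' : Z.Opens} (e' : O' ≤ g ⁻¹ᵁ O)
    (e : ⊤ ≤ h ⁻¹ᵁ O') (z : Γ(Z', O)) :
    ev (h ≫ g) O (e.trans (h.preimage_mono e')) z = ev h O' e (g.appLE O O' e' z) :=
  congr($(ev_comp g h e' e) z)

theorem ev_SpecMap (φ : R ⟶ R') (h : Spec R ⟶ Z) {O : Z.Opens} (e : ⊤ ≤ h ⁻¹ᵁ O) :
    ev (Spec.map φ ≫ h) O (Scheme.Hom.preimage_mono (Spec.map φ) e) = ev h O e ≫ φ := by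
  rw [ev, ev, Category.assoc, ← Scheme.ΓSpecIso_naturality, Scheme.Hom.appTop,
    ← Category.assoc (h.appLE O ⊤ e)]
  congr 1

theorem ev_id (R : CommRingCat.{u}) : ev (𝟙 (Spec R)) ⊤ le_rfl = (Scheme.ΓSpecIso R).hom := by
  simp [ev, Scheme.Hom.appLE]

/-- A morphism into an affine open is determined by its values. -/
theorem eq_SpecMap_ev (h : Spec R ⟶ Z) {O : Z.Opens} (hO : IsAffineOpen O) (e : ⊤ ≤ h ⁻¹ᵁ O) :
    Spec.map (ev h O e) ≫ hO.fromSpec = h := by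
  rw [ev, Spec.map_comp, Category.assoc, IsAffineOpen.SpecMap_appLE_fromSpec h hO (isAffineOpen_top _) e,
    IsAffineOpen.fromSpec_top, Scheme.isoSpec_Spec_inv, ← Spec.map_comp_assoc, Iso.inv_hom_id, Spec.map_id,
    Category.id_comp]

theorem hom_ext_ev {h h' : Spec R ⟶ Z} {O : Z.Opens} (hO : IsAffineOpen O) (e : ⊤ ≤ h ⁻¹ᵁ O)
    (e' : ⊤ ≤ h' ⁻¹ᵁ O) (eq : ev h O e = ev h' O e') : h = h' := by
  rw [← eq_SpecMap_ev h hO e, ← eq_SpecMap_ev h' hO e', eq]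

theorem preimage_basicOpen_ev (h : Spec R ⟶ Z) {O : Z.Opens} (e : ⊤ ≤ h ⁻¹ᵁ O) (z : Γ(Z, O)) :
    h ⁻¹ᵁ Z.basicOpen z = PrimeSpectrum.basicOpen ((ev h O e).hom z) := by
  rw [show PrimeSpectrum.basicOpen ((ev h O e).hom z) = (Spec R).basicOpen
      ((Scheme.ΓSpecIso R).inv ((ev h O e).hom z)) from (basicOpen_eq_of_affine _).symm]
  rw [show (Scheme.ΓSpecIso R).inv ((ev h O e).hom z) = h.appLE O ⊤ e z from
    congr($((Scheme.ΓSpecIso R).hom_inv_id) (h.appLE O ⊤ e z)), Scheme.basicOpen_appLE, top_inf_eq]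

theorem mem_basicOpen_iff (h : Spec R ⟶ Z) {O : Z.Opens} (e : ⊤ ≤ h ⁻¹ᵁ O) (z : Γ(Z, O)) (P : PrimeSpectrum R) :
    h P ∈ Z.basicOpen z ↔ (ev h O e).hom z ∉ P.asIdeal :=
  SetLike.ext_iff.1 (preimage_basicOpen_ev h e z) P

theorem ev_fromSpec {O : Z.Opens} (hO : IsAffineOpen O) :
    ev hO.fromSpec O hO.fromSpec_preimage_self.ge = 𝟙 _ := by
  rw [ev, Scheme.Hom.appLE, hO.fromSpec_app_self]
  simp only [Category.assoc, ← Functor.map_comp_assoc]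
  have hk : ∀ k : (op ⊤ : (Spec Γ(Z, O)).Opensᵒᵖ) ⟶ op ⊤, (Spec Γ(Z, O)).presheaf.map k = 𝟙 _ := fun k => by
    rw [Subsingleton.elim k (𝟙 _)]; exact CategoryTheory.Functor.map_id _ _
  erw [hk, Category.id_comp, Iso.inv_hom_id]

end Groth.Agent.Lib.Contraction
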