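import Groth.Prelude.Def_RelSpec
import Groth.Prelude.Def_AffAlg
import Groth.Agent.Lib.QCAlgPush.Basic
import Groth.Agent.Lib.Contraction.Ev
import Mathlib.AlgebraicGeometry.Morphisms.QuasiSeparated
import Mathlib.Topology.Sheaves.SheafCondition.UniqueGluing

/-!
# The fibre product algebra attached to a morphism with a section
-/

set_option autoImplicit false
universe u

open CategoryTheory CategoryTheory.Limits AlgebraicGeometry TopologicalSpace Opposite

noncomputable section

namespace Groth.Agent.Lib.Contraction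

theorem exists_res_eq_pow_mul {Z : Scheme.{u}} {O O' : Z.Opens} (hc : IsCompact (O : Set Z))
    (hq : IsQuasiSeparated (O : Set Z)) (f : Γ(Z, O)) (h : O' ≤ O) (e : O' = Z.basicOpen f) (z : Γ(Z, O')) :
    ∃ (n : ℕ) (y : Γ(Z, O)),
      (Z.presheaf.map (homOfLE h).op).hom y = (Z.presheaf.map (homOfLE h).op).hom f ^ n * z := by
  subst e
  obtain ⟨n, y, e⟩ := exists_eq_pow_mul_of_isCompact_of_isQuasiSeparated Z O hc hq f z
  exact ⟨n, y, e⟩

theorem exists_pow_mul_eq_zero_of_res {Z : Scheme.{u}} {O O' : Z.Opens} (hc : IsCompact (O : Set Z))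
    (f : Γ(Z, O)) (h : O' ≤ O) (e : O' = Z.basicOpen f) (y : Γ(Z, O))
    (h0 : (Z.presheaf.map (homOfLE h).op).hom y = 0) : ∃ n : ℕ, f ^ n * y = 0 := by
  subst e
  exact exists_pow_mul_eq_zero_of_res_basicOpen_eq_zero_of_isCompact Z hc y f h0

theorem isUnit_res_of_eq {Z : Scheme.{u}} {O O' : Z.Opens} (f : Γ(Z, O)) (h : O' ≤ O) (e : O' = Z.basicOpen f) :
    IsUnit ((Z.presheaf.map (homOfLE h).op).hom f) := by
  subst e
  exact RingedSpace.isUnit_res_basicOpen _ f

variable {X Y V : Scheme.{u}} (p : X ⟶ Y) (f : V ⟶ Y) (j : X ⟶ V) (w : j ≫ f = p)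

/-- Restriction of functions along the section. -/
def jres (U : Y.Opens) : Γ(V, f ⁻¹ᵁ U) →+* Γ(X, p ⁻¹ᵁ U) :=
  (j.appLE (f ⁻¹ᵁ U) (p ⁻¹ᵁ U) (AffAlgBij.le_preimage j w U)).hom

theorem jres_res {U U' : Y.Opens} (h : U' ≤ U) (r : Γ(V, f ⁻¹ᵁ U)) :
    jres p f j w U' ((V.presheaf.map (homOfLE (f.preimage_mono h)).op).hom r) =
      (X.presheaf.map (homOfLE (p.preimage_mono h)).op).hom (jres p f j w U r) := by
  change (V.presheaf.map _ ≫ j.appLE _ _ _).hom r = (j.appLE _ _ _ ≫ X.presheaf.map _).hom r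
  rw [Scheme.Hom.map_appLE, Scheme.Hom.appLE_map]

theorem jres_app (U : Y.Opens) (a : Γ(Y, U)) :
    jres p f j w U ((f.app U).hom a) = (p.app U).hom a := by
  subst w
  change (f.app U ≫ j.appLE _ _ _).hom a = _
  congr 1
  congr 1
  simp [Scheme.Hom.appLE]

theorem app_res {Z : Scheme.{u}} (g : Z ⟶ Y) {U U' : Y.Opens} (h : U' ≤ U) (a : Γ(Y, U)) :
    (g.app U').hom ((Y.presheaf.map (homOfLE h).op).hom a) =
      (Z.presheaf.map (homOfLE (g.preimage_mono h)).op).hom ((g.app U).hom a) :=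
  congr($(g.naturality (homOfLE h).op) a)

/-- Pairs of a function on the base and one upstairs agreeing on the section. -/
def pairs (U : Y.Opens) : Subring (Γ(Y, U) × Γ(V, f ⁻¹ᵁ U)) :=
  RingHom.eqLocus ((p.app U).hom.comp (RingHom.fst _ _)) ((jres p f j w U).comp (RingHom.snd _ _))

variable {p f j w} in
theorem mem_pairs {U : Y.Opens} {x : Γ(Y, U) × Γ(V, f ⁻¹ᵁ U)} :
    x ∈ pairs p f j w U ↔ (p.app U).hom x.1 = jres p f j w U x.2 := Iff.rfl

/-- The presheaf of pairs. -/
def pairsPresheaf : TopCat.Presheaf CommRingCat.{u} Y.carrier where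
  obj U := CommRingCat.of (pairs p f j w U.unop)
  map {U U'} i := CommRingCat.ofHom <| RingHom.codRestrict
    (((Y.presheaf.map i).hom.prodMap (V.presheaf.map (homOfLE (f.preimage_mono i.unop.le)).op).hom).comp
      (pairs p f j w U.unop).subtype) _ fun x => mem_pairs.2 (by
        change (p.app U'.unop).hom ((Y.presheaf.map (homOfLE i.unop.le).op).hom x.1.1) =
          jres p f j w U'.unop ((V.presheaf.map (homOfLE (f.preimage_mono i.unop.le)).op).hom x.1.2)
        rw [jres_res p f j w i.unop.le, app_res p i.unop.le, mem_pairs.1 x.2])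
  map_id U := by
    refine CommRingCat.hom_ext (RingHom.ext fun x => Subtype.ext (Prod.ext ?_ ?_))
    · exact congr($(Y.presheaf.map_id U) x.1.1)
    · exact congr($(V.presheaf.map_id (op (f ⁻¹ᵁ U.unop))) x.1.2)
  map_comp {U₁ U₂ U₃} i i' := by
    refine CommRingCat.hom_ext (RingHom.ext fun x => Subtype.ext (Prod.ext ?_ ?_))
    · exact congr($(Y.presheaf.map_comp i i') x.1.1)
    · exact congr($(V.presheaf.map_comp (homOfLE (f.preimage_mono i.unop.le)).op
        (homOfLE (f.preimage_mono i'.unop.le)).op) x.1.2)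

theorem isSheaf_pairs : (pairsPresheaf p f j w).IsSheaf := by
  refine (TopCat.Presheaf.isSheaf_iff_isSheafUniqueGluing _).2 fun {ι} U sf hsf => ?_
  have hcov : f ⁻¹ᵁ iSup U ≤ ⨆ i, f ⁻¹ᵁ U i := (Scheme.Hom.preimage_iSup f U).le
  obtain ⟨a, ha, hau⟩ := TopCat.Sheaf.existsUnique_gluing Y.sheaf U (fun i => (sf i).1.1)
    fun i k => congrArg (fun z : pairs p f j w (U i ⊓ U k) => z.1.1) (hsf i k)
  obtain ⟨r, hr, hru⟩ := TopCat.Sheaf.existsUnique_gluing' V.sheaf (fun i => f ⁻¹ᵁ U i) (f ⁻¹ᵁ iSup U)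
    (fun i => homOfLE (f.preimage_mono (le_iSup U i))) hcov (fun i => (sf i).1.2)
    fun i k => congrArg (fun z : pairs p f j w (U i ⊓ U k) => z.1.2) (hsf i k)
  have har : (a, r) ∈ pairs p f j w (iSup U) := mem_pairs.2 <| by
    refine TopCat.Sheaf.eq_of_locally_eq' X.sheaf (fun i => p ⁻¹ᵁ U i) _
      (fun i => homOfLE (p.preimage_mono (le_iSup U i))) (Scheme.Hom.preimage_iSup p U).le _ _ fun i => ?_
    change (X.presheaf.map (homOfLE (p.preimage_mono (le_iSup U i))).op).hom ((p.app (iSup U)).hom a) =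
      (X.presheaf.map (homOfLE (p.preimage_mono (le_iSup U i))).op).hom (jres p f j w (iSup U) r)
    rw [← app_res p (le_iSup U i), ← jres_res p f j w (le_iSup U i), show (Y.presheaf.map (homOfLE (le_iSup U i)).op).hom a = (sf i).1.1 from ha i,
      show (V.presheaf.map (homOfLE (f.preimage_mono (le_iSup U i))).op).hom r = (sf i).1.2 from hr i]
    exact mem_pairs.1 (sf i).2
  refine ⟨⟨(a, r), har⟩, fun i => Subtype.ext (Prod.ext (ha i) (hr i)), fun z hz => Subtype.ext (Prod.ext ?_ ?_)⟩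
  · exact hau z.1.1 fun i => congrArg (fun z : pairs p f j w (U i) => z.1.1) (hz i)
  · exact hru z.1.2 fun i => congrArg (fun z : pairs p f j w (U i) => z.1.2) (hz i)

/-- The structure map. -/
def pairsStr : Y.presheaf ⟶ pairsPresheaf p f j w where
  app U := CommRingCat.ofHom <| RingHom.codRestrict
    ((RingHom.id _).prod (f.app U.unop).hom) _ fun a => mem_pairs.2 (jres_app p f j w U.unop a).symm
  naturality U U' i := CommRingCat.hom_ext (RingHom.ext fun a => Subtype.ext (Prod.ext rfl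
    (app_res f i.unop.le a)))

variable [QuasiCompact p] [QuasiCompact f] [QuasiSeparated f]

theorem isQC_pairs : RelSpec.IsQC (pairsPresheaf p f j w) (pairsStr p f j w) := by
  intro U hU r
  have hle := Y.basicOpen_le r
  have hcV := f.isCompact_preimage hU.isCompact
  have hqV := f.isQuasiSeparated_preimage hU.isQuasiSeparated
  have hcX := p.isCompact_preimage hU.isCompact
  have eV : f ⁻¹ᵁ Y.basicOpen r = V.basicOpen ((f.app U).hom r) := Scheme.preimage_basicOpen f r
  have eX : p ⁻¹ᵁ Y.basicOpen r = X.basicOpen ((p.app U).hom r) := Scheme.preimage_basicOpen p r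
  let rV := (V.presheaf.map (homOfLE (f.preimage_mono hle)).op).hom
  let rY := (Y.presheaf.map (homOfLE hle).op).hom
  let rX := (X.presheaf.map (homOfLE (p.preimage_mono hle)).op).hom
  let inst := ((pairsPresheaf p f j w).map (homOfLE hle).op).hom.toAlgebra
  refine (isLocalization_iff _ _).2 ⟨?_, ?_, ?_⟩
  · rintro ⟨_, n, rfl⟩
    simp only [map_pow]
    refine IsUnit.pow _ ?_
    obtain ⟨u, hu⟩ := isUnit_res_of_eq r hle rfl
    refine isUnit_iff_exists_inv.2 ⟨((pairsStr p f j w).app (op (Y.basicOpen r))).hom ↑u⁻¹,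
      Subtype.ext (Prod.ext ?_ ?_)⟩
    · change rY r * (↑u⁻¹ : Γ(Y, Y.basicOpen r)) = 1
      rw [show rY r = ↑u from hu.symm, Units.mul_inv]
    · change rV ((f.app U).hom r) * (f.app (Y.basicOpen r)).hom ↑u⁻¹ = 1
      rw [show rV ((f.app U).hom r) = (f.app (Y.basicOpen r)).hom (rY r) from (app_res f hle r).symm, ← map_mul,
        show rY r = ↑u from hu.symm, Units.mul_inv, map_one]
  · rintro ⟨⟨a, z⟩, hz⟩
    obtain ⟨n₁, a', ha'⟩ := exists_res_eq_pow_mul hU.isCompact hU.isQuasiSeparated r hle rfl a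
    obtain ⟨n₂, z', hz'⟩ := exists_res_eq_pow_mul hcV hqV ((f.app U).hom r) (f.preimage_mono hle) eV z
    let a'' := r ^ n₂ * a'
    let z'' := (f.app U).hom r ^ n₁ * z'
    have e : rX ((p.app U).hom a'' - jres p f j w U z'') = 0 := by
      rw [map_sub, sub_eq_zero]
      change rX _ = rX _
      rw [show rX ((p.app U).hom a'') = (p.app _).hom (rY a'') from (app_res p hle _).symm,
        show rX (jres p f j w U z'') = jres p f j w _ (rV z'') from (jres_res p f j w hle _).symm]
      simp only [a'', z'', map_mul, map_pow, show rY a' = rY r ^ n₁ * a from ha',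
        show rV z' = rV ((f.app U).hom r) ^ n₂ * z from hz']
      rw [show rV ((f.app U).hom r) = (f.app (Y.basicOpen r)).hom (rY r) from (app_res f hle r).symm,
        jres_app, ← mem_pairs.1 hz]
      ring
    obtain ⟨m, hm⟩ := exists_pow_mul_eq_zero_of_res hcX _ (p.preimage_mono hle) eX _ e
    have hmem : (r ^ m * a'', (f.app U).hom r ^ m * z'') ∈ pairs p f j w U := mem_pairs.2 <| by
      simp only [map_mul, map_pow, jres_app]
      rwa [mul_sub, sub_eq_zero] at hm
    refine ⟨(⟨_, hmem⟩, ⟨_, m + n₁ + n₂, rfl⟩), Subtype.ext (Prod.ext ?_ ?_)⟩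
    · change a * rY _ = rY (r ^ m * a'')
      simp only [a'', map_mul, show rY a' = rY r ^ n₁ * a from ha']
      change a * rY (r ^ (m + n₁ + n₂)) = _
      simp only [map_pow]
      ring
    · change z * rV _ = rV ((f.app U).hom r ^ m * z'')
      simp only [z'', map_mul, show rV z' = rV ((f.app U).hom r) ^ n₂ * z from hz']
      change z * rV ((f.app U).hom r ^ (m + n₁ + n₂)) = _
      simp only [map_pow]
      ring
  · intro x y h
    obtain ⟨n₁, h₁⟩ := exists_pow_mul_eq_zero_of_res hU.isCompact r hle rfl (x.1.1 - y.1.1)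
      (by rw [map_sub, sub_eq_zero]; exact congr($h.1.1))
    obtain ⟨n₂, h₂⟩ := exists_pow_mul_eq_zero_of_res hcV ((f.app U).hom r) (f.preimage_mono hle) eV (x.1.2 - y.1.2)
      (by rw [map_sub, sub_eq_zero]; exact congr($h.1.2))
    rw [mul_sub, sub_eq_zero] at h₁ h₂
    refine ⟨⟨_, n₁ + n₂, rfl⟩, Subtype.ext (Prod.ext ?_ ?_)⟩
    · change r ^ (n₁ + n₂) * x.1.1 = r ^ (n₁ + n₂) * y.1.1
      rw [pow_add, mul_comm (r ^ n₁), mul_assoc, mul_assoc, h₁]
    · change (f.app U).hom r ^ (n₁ + n₂) * x.1.2 = (f.app U).hom r ^ (n₁ + n₂) * y.1.2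
      rw [pow_add, mul_assoc, mul_assoc, h₂]

/-- The quasi-coherent algebra of pairs. -/
def pairsAlg : RelSpec.QCAlg Y where
  presheaf := pairsPresheaf p f j w
  isSheaf := isSheaf_pairs p f j w
  str := pairsStr p f j w
  isQC := isQC_pairs p f j w

/-- First projection. -/
def pairsFst : pairsAlg p f j w ⟶ RelSpec.QCAlg.directImage (𝟙 Y) :=
  ⟨{ app := fun U => CommRingCat.ofHom ((RingHom.fst _ _).comp (pairs p f j w U.unop).subtype)
     naturality := fun _ _ _ => rfl }, rfl⟩

/-- Second projection. -/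
def pairsSnd : pairsAlg p f j w ⟶ RelSpec.QCAlg.directImage f :=
  ⟨{ app := fun U => CommRingCat.ofHom ((RingHom.snd _ _).comp (pairs p f j w U.unop).subtype)
     naturality := fun _ _ _ => rfl }, rfl⟩

/-- The cone. -/
abbrev cone : Scheme.{u} := (pairsAlg p f j w).spec

/-- Its projection. -/
abbrev coneProj : cone p f j w ⟶ Y := (pairsAlg p f j w).π

theorem exists_vertex : ∃ (ε : Y ⟶ cone p f j w) (h : ε ≫ coneProj p f j w = 𝟙 Y),
    AffAlg.algHom (coneProj p f j w) (𝟙 Y) ε h = (pairsAlg p f j w).gammaMap ≫ (pairsFst p f j w).hom := by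
  obtain ⟨ε, h, e⟩ := QCAlgPush.ofHom_surjective ((pairsAlg p f j w).gammaHom ≫ pairsFst p f j w)
  exact ⟨ε, h, congrArg RelSpec.QCAlg.Hom.hom e⟩

theorem exists_map : ∃ (q : V ⟶ cone p f j w) (h : q ≫ coneProj p f j w = f),
    AffAlg.algHom (coneProj p f j w) f q h = (pairsAlg p f j w).gammaMap ≫ (pairsSnd p f j w).hom := by
  obtain ⟨q, h, e⟩ := QCAlgPush.ofHom_surjective ((pairsAlg p f j w).gammaHom ≫ pairsSnd p f j w)
  exact ⟨q, h, congrArg RelSpec.QCAlg.Hom.hom e⟩

/-- The vertex. -/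
def coneVertex : Y ⟶ cone p f j w := (exists_vertex p f j w).choose

theorem coneVertex_proj : coneVertex p f j w ≫ coneProj p f j w = 𝟙 Y :=
  (exists_vertex p f j w).choose_spec.choose

/-- The contraction. -/
def coneMap : V ⟶ cone p f j w := (exists_map p f j w).choose

theorem coneMap_proj : coneMap p f j w ≫ coneProj p f j w = f :=
  (exists_map p f j w).choose_spec.choose

/-- A section of the algebra as a function on the cone. -/
def elt (U : Y.Opens) (x : pairs p f j w U) : Γ(cone p f j w, coneProj p f j w ⁻¹ᵁ U) :=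
  haveI := RelSpecBasics.Gamma.isIso_gammaMap (pairsAlg p f j w)
  ((inv (pairsAlg p f j w).gammaMap).app (op U)).hom x

theorem gammaMap_elt (U : Y.Opens) (x : pairs p f j w U) :
    ((pairsAlg p f j w).gammaMap.app (op U)).hom (elt p f j w U x) = x :=
  haveI := RelSpecBasics.Gamma.isIso_gammaMap (pairsAlg p f j w)
  congr($(NatTrans.congr_app (IsIso.inv_hom_id (pairsAlg p f j w).gammaMap) (op U)) x)

theorem elt_surjective (U : Y.Opens) : Function.Surjective (elt p f j w U) := fun c =>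
  haveI := RelSpecBasics.Gamma.isIso_gammaMap (pairsAlg p f j w)
  ⟨((pairsAlg p f j w).gammaMap.app (op U)).hom c,
    congr($(NatTrans.congr_app (IsIso.hom_inv_id (pairsAlg p f j w).gammaMap) (op U)) c)⟩

theorem coneVertex_algHom : AffAlg.algHom (coneProj p f j w) (𝟙 Y) (coneVertex p f j w) (coneVertex_proj p f j w) =
    (pairsAlg p f j w).gammaMap ≫ (pairsFst p f j w).hom :=
  (exists_vertex p f j w).choose_spec.choose_spec

theorem coneMap_algHom : AffAlg.algHom (coneProj p f j w) f (coneMap p f j w) (coneMap_proj p f j w) =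
    (pairsAlg p f j w).gammaMap ≫ (pairsSnd p f j w).hom :=
  (exists_map p f j w).choose_spec.choose_spec

theorem vertex_app_elt (U : Y.Opens) (x : pairs p f j w U) :
    ((coneVertex p f j w).appLE (coneProj p f j w ⁻¹ᵁ U) ((𝟙 Y : Y ⟶ Y) ⁻¹ᵁ U)
      (AffAlgBij.le_preimage _ (coneVertex_proj p f j w) U)).hom (elt p f j w U x) = x.1.1 := by
  rw [← AffAlgBij.algHom_app (coneVertex p f j w) (coneVertex_proj p f j w) U,
    coneVertex_algHom]
  exact congrArg (fun z : pairs p f j w U => z.1.1) (gammaMap_elt p f j w U x)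

theorem map_app_elt (U : Y.Opens) (x : pairs p f j w U) :
    ((coneMap p f j w).appLE (coneProj p f j w ⁻¹ᵁ U) (f ⁻¹ᵁ U)
      (AffAlgBij.le_preimage _ (coneMap_proj p f j w) U)).hom (elt p f j w U x) = x.1.2 := by
  rw [← AffAlgBij.algHom_app (coneMap p f j w) (coneMap_proj p f j w) U,
    coneMap_algHom]
  exact congrArg (fun z : pairs p f j w U => z.1.2) (gammaMap_elt p f j w U x)

theorem comp_coneMap : j ≫ coneMap p f j w = p ≫ coneVertex p f j w := by
  have w₁ : (j ≫ coneMap p f j w) ≫ coneProj p f j w = p := by rw [Category.assoc, coneMap_proj, w]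
  have w₂ : (p ≫ coneVertex p f j w) ≫ coneProj p f j w = p := by
    rw [Category.assoc, coneVertex_proj, Category.comp_id]
  have key : AffAlg.algHom (coneProj p f j w) p _ w₁ = AffAlg.algHom (coneProj p f j w) p _ w₂ := by
    rw [← QCAlgPush.algHom_comp (coneMap p f j w) (coneMap_proj p f j w) j w w₁,
      ← QCAlgPush.algHom_comp (coneVertex p f j w) (coneVertex_proj p f j w) p (Category.comp_id p) w₂]
    refine NatTrans.ext (funext fun U => CommRingCat.hom_ext (RingHom.ext fun c => ?_))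
    obtain ⟨U⟩ := U
    obtain ⟨x, rfl⟩ := elt_surjective p f j w U c
    rw [NatTrans.comp_app, NatTrans.comp_app, CommRingCat.comp_apply, CommRingCat.comp_apply,
      AffAlgBij.algHom_app, AffAlgBij.algHom_app, AffAlgBij.algHom_app, AffAlgBij.algHom_app,
      map_app_elt, vertex_app_elt]
    refine (mem_pairs.1 x.2).symm.trans ?_
    exact congr($((Scheme.Hom.appLE_eq_app p (U := U)).symm) x.1.1)
  exact congrArg Subtype.val (AffAlgBij.injective (f := coneProj p f j w) (g := p) (a₁ := ⟨_, w₁⟩) (a₂ := ⟨_, w₂⟩)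
    (Subtype.ext key))

end Groth.Agent.Lib.Contraction
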