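import Groth.Agent.Lib.Contraction.Expansion
import Groth.Agent.Lib.Ample.RelAmple

/-!
# A contraction of the zero section makes the module relatively ample
-/

set_option autoImplicit false
universe u

open CategoryTheory CategoryTheory.Limits AlgebraicGeometry TopologicalSpace Opposite
open Groth.Agent.Lib.ProjQ Groth.Agent.Lib.ProjQ.SecAlg
open scoped Polynomial PowerSeries

noncomputable section

namespace Groth.Agent.Lib.Contraction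

variable {X Y C : Scheme.{u}} (p : X ⟶ Y) [IsSeparated p] [QuasiCompact p]
  {L : X.Modules} (hL : PicF.IsInvertible L) (hLq : Coh.IsQCoh L) {𝒜 : RelProj.QCGrAlg X} {jL : L ⟶ 𝒜.toModule}
  (hA : RelProj.IsGrSymAlg L 𝒜 jL) {aug : 𝒜.toQCAlg ⟶ RelSpec.QCAlg.unit X}
  (haug : RelCone.IsAugmentation 𝒜 aug) {j0 : X ⟶ 𝒜.toQCAlg.spec} (hj0 : RelCone.IsVertex 𝒜 aug j0)

include hL hLq hA haug hj0 in
theorem isRelAmple_of_contraction (ε : Y ⟶ C) (q : 𝒜.toQCAlg.spec ⟶ C) (hjq : j0 ≫ q = p ≫ ε)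
    (V0 : 𝒜.toQCAlg.spec.Opens) (hV0 : (V0 : Set 𝒜.toQCAlg.spec) = (Set.range j0.base)ᶜ)
    [IsOpenImmersion (V0.ι ≫ q)] (hdis : Set.range (V0.ι ≫ q).base ∩ Set.range ε.base = ∅) :
    RelAmple.IsRelAmple p L := by
  obtain ⟨PL, pL, chartL, hPL⟩ := Groth.Agent.S8258.result 𝒜
  refine Ample.RelAmple.isRelAmple_of_local p fun y => ?_
  obtain ⟨C', hC', hyC, -⟩ := exists_isAffineOpen_mem_and_subset (X := C) (x := ε y) (U := ⊤) trivial
  refine ⟨ε ⁻¹ᵁ C', hyC, fun U hU hle => (Ample.Restrict.isAmple_restrict_iff_pb _).1 ?_⟩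
  let T := p ⁻¹ᵁ U
  haveI : CompactSpace (T : Scheme.{u}) := isCompact_iff_compactSpace.1 (p.isCompact_preimage hU.isCompact)
  refine Ample.Pow.isAmple_iff.2 ⟨TensorMod.Gen.isInvertible_iff.2 fun z => ?_, inferInstance, fun x => ?_⟩
  · obtain ⟨V, -, e, hzV, -, he⟩ := exists_gen_nhd hL (x := z.1) (W := T) z.2
    exact ⟨_, _, hzV, Ample.Restrict.isGen_restrict he _⟩
  -- facts on charts
  let N := q ⁻¹ᵁ C'
  have hzero : ∀ {W : X.Opens} {hW : IsAffineOpen W} {t : 𝒜.presheaf.obj (op W)} (ht : IsFrame 𝒜 W hW t),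
      W ≤ T → ∀ y0 : PrimeSpectrum Γ(X, W), q (chi ht (zeroPt y0)) = ε (p (hW.fromSpec y0)) ∧
        chi ht (zeroPt y0) ∈ N := by
    intro W hW t ht hWT y0
    have e1 : q (chi ht (zeroPt y0)) = ε (p (hW.fromSpec y0)) := by
      rw [show chi ht (zeroPt y0) = j0 (hW.fromSpec y0) from (congr($(fromSpec_vertex ht haug hj0) y0)).symm]
      exact congr($hjq (hW.fromSpec y0))
    refine ⟨e1, ?_⟩
    change q (chi ht (zeroPt y0)) ∈ C'
    rw [e1]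
    exact hle (hWT (hW.range_fromSpec.le ⟨y0, rfl⟩))
  have hgen : ∀ {W : X.Opens} {hW : IsAffineOpen W} {t : 𝒜.presheaf.obj (op W)} (ht : IsFrame 𝒜 W hW t)
      (y0 : PrimeSpectrum Γ(X, W)), chi ht (genPt y0) ∈ V0 ∧ 𝒜.toQCAlg.π (chi ht (genPt y0)) = hW.fromSpec y0 := by
    intro W hW t ht y0
    refine ⟨hV0.ge fun h => ?_, (π_chi ht (genPt y0)).trans (congrArg _ (PrimeSpectrum.ext (Ideal.ext fun c => ?_)))⟩
    · have := mem_genPt.1 ((chi_mem_range_iff ht haug hj0 (genPt y0)).1 h) 1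
      rw [Polynomial.coeff_X_one] at this
      exact y0.isPrime.ne_top ((Ideal.eq_top_iff_one _).2 this)
    · refine ⟨fun h => ?_, fun h => mem_genPt.2 fun n => ?_⟩
      · simpa using mem_genPt.1 h 0
      · rw [Polynomial.coeff_C]
        split_ifs
        · exact h
        · exact zero_mem _
  have hexp : ∀ {W : X.Opens} {hW : IsAffineOpen W} {t : 𝒜.presheaf.obj (op W)} (ht : IsFrame 𝒜 W hW t),
      W ≤ T → ∀ F : Γ(𝒜.toQCAlg.spec, N), ∃ φ, IsExp ht F φ := by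
    intro W hW t ht hWT F
    refine exists_isExp ht F fun P hP => ?_
    obtain ⟨x', hx'⟩ := (chi_mem_range_iff ht haug hj0 P).2 hP
    change q (chi ht P) ∈ C'
    rw [← hx', show q (j0 x') = ε (p x') from congr($hjq x')]
    refine hle ?_
    have : x' = 𝒜.toQCAlg.π (chi ht P) := by
      rw [← hx']
      exact (congr($(hj0.comp_π) x')).symm
    rw [this]
    exact hWT ((opensRange_chi ht).le ⟨P, rfl⟩)
  -- the neighbourhood
  obtain ⟨W0, hW0, t0, hxW0, hW0T, ht0⟩ := exists_frame hL hLq hA (x := x.1) (W := T) x.2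
  obtain ⟨x0, hx0⟩ := hW0.range_fromSpec.ge hxW0
  let Vs : (V0 : Scheme.{u}).Opens := V0.ι ⁻¹ᵁ (N ⊓ 𝒜.toQCAlg.π ⁻¹ᵁ W0)
  let η : (V0 : Scheme.{u}) := ⟨chi ht0 (genPt x0), (hgen ht0 x0).1⟩
  have hηVs : η ∈ Vs := by
    refine ⟨?_, (opensRange_chi ht0).le ⟨genPt x0, rfl⟩⟩
    obtain ⟨φ, hφ⟩ := hexp ht0 hW0T (0 : Γ(𝒜.toQCAlg.spec, N))
    exact (exists_coeff_notMem_iff ht0 hφ x0).1
  obtain ⟨f, hfle, hfη⟩ := hC'.exists_basicOpen_le (V := (V0.ι ≫ q) ''ᵁ Vs) ⟨_, η, hηVs, rfl⟩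
    (show q η.1 ∈ C' from hηVs.1)
  let F : Γ(𝒜.toQCAlg.spec, N) := (q.app C').hom f
  have hF : 𝒜.toQCAlg.spec.basicOpen F = q ⁻¹ᵁ C.basicOpen f := (Scheme.preimage_basicOpen q f).symm
  have hFW : ∀ v ∈ V0, v ∈ 𝒜.toQCAlg.spec.basicOpen F → 𝒜.toQCAlg.π v ∈ W0 := by
    intro v hv0 hv
    obtain ⟨v', hv', hvv⟩ := hfle (show q v ∈ C.basicOpen f from hF.le hv)
    have : v' = ⟨v, hv0⟩ := (V0.ι ≫ q).injective hvv
    subst this
    exact hv'.2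
  -- coefficients
  let ι := Σ' (W : X.Opens) (hW : IsAffineOpen W) (t : 𝒜.presheaf.obj (op W)), IsFrame 𝒜 W hW t ∧ W ≤ T
  choose φ hφ using fun i : ι => hexp i.2.2.2.1 i.2.2.2.2 F
  obtain ⟨n, hn, hnx⟩ : ∃ n, 0 < n ∧ PowerSeries.coeff n (φ ⟨W0, hW0, t0, ht0, hW0T⟩) ∉ x0.asIdeal := by
    obtain ⟨-, h1, h2⟩ := exists_coeff_notMem_iff ht0 (hφ ⟨W0, hW0, t0, ht0, hW0T⟩) x0
    obtain ⟨n, hn⟩ := h1.1 (hF.ge hfη)
    refine ⟨n, Nat.pos_of_ne_zero fun h0 => ?_, hn⟩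
    have h3 := hF.le (h2.2 (h0 ▸ hn))
    obtain ⟨v, -, hv⟩ := hfle h3
    exact (Set.eq_empty_iff_forall_notMem.1 hdis (q (chi ht0 (zeroPt x0))))
      ⟨⟨v, hv⟩, ⟨_, (hzero ht0 hW0T x0).1.symm⟩⟩
  let z : ∀ i : ι, 𝒜.presheaf.obj (op i.1) := fun i =>
    (𝒜.str.app (op i.1)).hom (PowerSeries.coeff n (φ i)) * i.2.2.1 ^ n
  have hcov : ∀ x' ∈ T, ∃ i : ι, x' ∈ i.1 := fun x' hx' => by
    obtain ⟨W, hW, t, hxW, hWT, ht⟩ := exists_frame hL hLq hA (x := x') (W := T) hx'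
    exact ⟨⟨W, hW, t, ht, hWT⟩, hxW⟩
  obtain ⟨σ, hσ⟩ := exists_glue (W := T) (fun i : ι => i.1) (fun i => i.2.2.2.2)
    (fun x' hx' => Opens.mem_iSup.2 (hcov x' hx')) z fun i k => by
      choose W hW t hxW hWle ht using fun x' : (i.1 ⊓ k.1 : X.Opens) => exists_frame hL hLq hA (x := x'.1)
        (W := i.1 ⊓ k.1) x'.2
      refine eq_of_cover W hWle (fun x' hx' => Opens.mem_iSup.2 ⟨⟨x', hx'⟩, hxW ⟨x', hx'⟩⟩) _ _ fun x' => ?_
      rw [rz_rz, rz_rz]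
      let l : ι := ⟨W x', hW x', t x', ht x', ((hWle x').trans inf_le_left).trans i.2.2.2.2⟩
      exact (coeff_isExp_res i.2.2.2.1 (hφ i) (ht x') _ (hφ l) n).trans
        (coeff_isExp_res k.2.2.2.1 (hφ k) (ht x') _ (hφ l) n).symm
  have hσhom : IsHom 𝒜 n T σ := isHom_of_isLocHom fun x' hx' => by
    obtain ⟨i, hi⟩ := hcov x' hx'
    refine ⟨i.1, i.2.1, i.2.2.2.2, hi, ?_⟩
    rw [hσ i]
    simpa using SetLike.mul_mem_graded (𝒜.str_mem i.1 i.2.1 (PowerSeries.coeff n (φ i)))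
      (SetLike.pow_mem_graded n i.2.2.2.1.mem)
  have hlocW : loc 𝒜 n T σ ≤ W0 := by
    intro x' hx'
    obtain ⟨i, hi⟩ := hcov x' (loc_le n T σ hx')
    obtain ⟨W, hW, t, ht, hWT⟩ := i
    have h1 : x' ∈ X.basicOpen (PowerSeries.coeff n (φ ⟨W, hW, t, ht, hWT⟩)) := by
      rw [← loc_inf_frame hL hLq hA hPL hn σ hσhom ht hWT (hσ ⟨W, hW, t, ht, hWT⟩)]
      exact ⟨hx', hi⟩
    obtain ⟨y0, rfl⟩ := hW.range_fromSpec.ge hi
    have h2 := (exists_coeff_notMem_iff ht (hφ ⟨W, hW, t, ht, hWT⟩) y0).2.1.2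
      ⟨n, (fromSpec_mem_basicOpen hW _ y0).1 h1⟩
    rw [← (hgen ht y0).2]
    exact hFW _ (hgen ht y0).1 h2
  have hloc : loc 𝒜 n T σ = X.basicOpen (PowerSeries.coeff n (φ ⟨W0, hW0, t0, ht0, hW0T⟩)) := by
    rw [← loc_inf_frame hL hLq hA hPL hn σ hσhom ht0 hW0T (hσ ⟨W0, hW0, t0, ht0, hW0T⟩)]
    exact (inf_eq_left.2 hlocW).symm
  refine affineAt_of_section hL hLq hA hPL x hn hσhom ?_ ?_
  · rw [hloc, ← show hW0.fromSpec x0 = x.1 from hx0]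
    exact (fromSpec_mem_basicOpen hW0 _ x0).2 hnx
  · rw [hloc]
    exact hW0.basicOpen _

end Groth.Agent.Lib.Contraction
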