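import Groth.Agent.Lib.Contraction.Forward
import Mathlib.RingTheory.PowerSeries.Basic
import Mathlib.RingTheory.PowerSeries.Inverse

/-!
# Expansions along the zero section of a line bundle
-/

set_option autoImplicit false
universe u

open CategoryTheory CategoryTheory.Limits AlgebraicGeometry TopologicalSpace Opposite
open Groth.Agent.Lib.ProjQ Groth.Agent.Lib.ProjQ.SecAlg
open scoped Polynomial PowerSeries

noncomputable section

namespace Groth.Agent.Lib.Contraction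

variable {X : Scheme.{u}} {𝒜 : RelProj.QCGrAlg X} {W : X.Opens} {hW : IsAffineOpen W}
  {t : 𝒜.presheaf.obj (op W)} (ht : IsFrame 𝒜 W hW t)

/-- The basic chart `D(b)` of a chart of the line bundle. -/
def bchart (b : Γ(X, W)[X]) : Spec (CommRingCat.of (Localization.Away b)) ⟶ 𝒜.toQCAlg.spec :=
  Spec.map (CommRingCat.ofHom (algebraMap Γ(X, W)[X] (Localization.Away b))) ≫ chi ht

/-- `φ` is the expansion of `F` along the zero section. -/
def IsExp {N : 𝒜.toQCAlg.spec.Opens} (F : Γ(𝒜.toQCAlg.spec, N)) (φ : (Γ(X, W))⟦X⟧) : Prop :=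
  ∃ (b e : Γ(X, W)[X]) (m : ℕ) (h : ⊤ ≤ bchart ht b ⁻¹ᵁ N), b.coeff 0 = 1 ∧
    (ev (bchart ht b) N h).hom F * algebraMap Γ(X, W)[X] (Localization.Away b) (b ^ m) =
      algebraMap Γ(X, W)[X] (Localization.Away b) e ∧
    φ * (↑(b ^ m) : (Γ(X, W))⟦X⟧) = ↑e

theorem exists_isExp {N : 𝒜.toQCAlg.spec.Opens} (F : Γ(𝒜.toQCAlg.spec, N))
    (hN : ∀ P : PrimeSpectrum Γ(X, W)[X], Polynomial.X ∈ P.asIdeal → chi ht P ∈ N) : ∃ φ, IsExp ht F φ := by
  obtain ⟨I, hI⟩ := (PrimeSpectrum.isClosed_iff_zeroLocus_ideal _).1 (chi ht ⁻¹ᵁ N).isOpen.isClosed_compl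
  have hI' : ∀ P : PrimeSpectrum Γ(X, W)[X], P ∈ PrimeSpectrum.zeroLocus (I : Set Γ(X, W)[X]) ↔ chi ht P ∉ N :=
    fun P => (Set.ext_iff.1 hI P).symm
  have hone : (1 : Γ(X, W)[X]) ∈ I ⊔ Ideal.span {Polynomial.X} := by
    rw [← Ideal.eq_top_iff_one, ← PrimeSpectrum.zeroLocus_empty_iff_eq_top, Set.eq_empty_iff_forall_notMem]
    intro P hP
    rw [PrimeSpectrum.zeroLocus_sup] at hP
    have hX : Polynomial.X ∈ P.asIdeal := hP.2 (Ideal.mem_span_singleton_self _)
    exact (hI' P).1 hP.1 (hN P hX)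
  obtain ⟨b, hb, c, hc, hbc⟩ := Submodule.mem_sup.1 hone
  obtain ⟨c, rfl⟩ := Ideal.mem_span_singleton'.1 hc
  have hb0 : b.coeff 0 = 1 := by simpa using congrArg (fun q : Γ(X, W)[X] => q.coeff 0) hbc
  have h : ⊤ ≤ bchart ht b ⁻¹ᵁ N := fun Q _ => by
    by_contra hQ
    have h2 := (hI' (PrimeSpectrum.comap (algebraMap Γ(X, W)[X] (Localization.Away b)) Q)).2 hQ hb
    exact Q.isPrime.ne_top (Ideal.eq_top_of_isUnit_mem _ h2 (IsLocalization.Away.algebraMap_isUnit b))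
  obtain ⟨⟨e, _, m, rfl⟩, he⟩ := IsLocalization.surj (Submonoid.powers b) ((ev (bchart ht b) N h).hom F)
  have hu : IsUnit ((b ^ m : Γ(X, W)[X]) : (Γ(X, W))⟦X⟧) := by
    rw [PowerSeries.isUnit_iff_constantCoeff, Polynomial.constantCoeff_coe,
      Polynomial.coeff_zero_eq_eval_zero, Polynomial.eval_pow, ← Polynomial.coeff_zero_eq_eval_zero, hb0, one_pow]
    exact isUnit_one
  exact ⟨(e : (Γ(X, W))⟦X⟧) * (↑hu.unit⁻¹ : (Γ(X, W))⟦X⟧), b, e, m, h, hb0, he, by
    rw [mul_assoc, IsUnit.val_inv_mul, mul_one]⟩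

theorem bchart_map {W' : X.Opens} {hW' : IsAffineOpen W'} {t' : 𝒜.presheaf.obj (op W')}
    (ht' : IsFrame 𝒜 W' hW' t') (ρ : A1 W ⟶ A1 W') (hρ : Spec.map ρ ≫ chi ht = chi ht') (b : Γ(X, W)[X])
    (b' : Γ(X, W')[X]) (π : CommRingCat.of (Localization.Away b) ⟶ CommRingCat.of (Localization.Away b'))
    (hπ : CommRingCat.ofHom (algebraMap Γ(X, W)[X] (Localization.Away b)) ≫ π =
      ρ ≫ CommRingCat.ofHom (algebraMap Γ(X, W')[X] (Localization.Away b'))) :
    Spec.map π ≫ bchart ht b = bchart ht' b' := by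
  rw [bchart, bchart, ← Spec.map_comp_assoc, hπ, Spec.map_comp, Category.assoc, hρ]

/-- Transport of a fraction to a smaller chart. -/
theorem exists_transport {N : 𝒜.toQCAlg.spec.Opens} (F : Γ(𝒜.toQCAlg.spec, N)) {W' : X.Opens}
    {hW' : IsAffineOpen W'} {t' : 𝒜.presheaf.obj (op W')} (ht' : IsFrame 𝒜 W' hW' t') (ρ : A1 W ⟶ A1 W')
    (hρ : Spec.map ρ ≫ chi ht = chi ht') (b e : Γ(X, W)[X]) (m : ℕ) (h : ⊤ ≤ bchart ht b ⁻¹ᵁ N)
    (he : (ev (bchart ht b) N h).hom F * algebraMap Γ(X, W)[X] (Localization.Away b) (b ^ m) =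
      algebraMap Γ(X, W)[X] (Localization.Away b) e) (b' : Γ(X, W')[X])
    (hdvd : IsUnit (algebraMap Γ(X, W')[X] (Localization.Away b') (ρ.hom b))) :
    ∃ h' : ⊤ ≤ bchart ht' b' ⁻¹ᵁ N, (ev (bchart ht' b') N h').hom F *
      algebraMap Γ(X, W')[X] (Localization.Away b') (ρ.hom b ^ m) =
        algebraMap Γ(X, W')[X] (Localization.Away b') (ρ.hom e) := by
  let π : CommRingCat.of (Localization.Away b) ⟶ CommRingCat.of (Localization.Away b') :=
    CommRingCat.ofHom (IsLocalization.Away.lift b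
      (g := (algebraMap Γ(X, W')[X] (Localization.Away b')).comp ρ.hom) hdvd)
  have hπ : ∀ q, π.hom (algebraMap Γ(X, W)[X] (Localization.Away b) q) =
      algebraMap Γ(X, W')[X] (Localization.Away b') (ρ.hom q) := fun q => IsLocalization.Away.lift_eq b hdvd q
  have hb := bchart_map ht ht' ρ hρ b b' π (CommRingCat.hom_ext (RingHom.ext hπ))
  refine ⟨hb ▸ Scheme.Hom.preimage_mono (Spec.map π) h, ?_⟩
  have h1 := congrArg π.hom he
  rw [map_mul, hπ, hπ, map_pow] at h1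
  rw [← h1]
  congr 1
  rw [ev_congr hb.symm]
  exact congr($(ev_SpecMap π (bchart ht b) h) F)

theorem isExp_unique {N : 𝒜.toQCAlg.spec.Opens} {F : Γ(𝒜.toQCAlg.spec, N)} {φ φ' : (Γ(X, W))⟦X⟧}
    (h₁ : IsExp ht F φ) (h₂ : IsExp ht F φ') : φ = φ' := by
  obtain ⟨b, e, m, h, hb, he, hφ⟩ := h₁
  obtain ⟨b', e', m', h', hb', he', hφ'⟩ := h₂
  have hu := IsLocalization.Away.algebraMap_isUnit (S := Localization.Away (b * b')) (b * b')
  rw [map_mul] at hu
  have hid : Spec.map (𝟙 (A1 W)) ≫ chi ht = chi ht := by rw [Spec.map_id, Category.id_comp]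
  obtain ⟨k, hk⟩ := exists_transport ht F ht (𝟙 _) hid b e m h he (b * b') (isUnit_of_mul_isUnit_left hu)
  obtain ⟨k', hk'⟩ := exists_transport ht F ht (𝟙 _) hid b' e' m' h' he' (b * b') (isUnit_of_mul_isUnit_right hu)
  simp only [CommRingCat.hom_id, RingHom.id_apply] at hk hk'
  have h3 : algebraMap Γ(X, W)[X] (Localization.Away (b * b')) (e * b' ^ m') =
      algebraMap Γ(X, W)[X] (Localization.Away (b * b')) (e' * b ^ m) := by
    rw [map_mul, map_mul, ← hk, ← hk']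
    ring
  obtain ⟨⟨_, r, rfl⟩, hr⟩ := IsLocalization.exists_of_eq (M := Submonoid.powers (b * b')) h3
  have hunit : ∀ (q : Γ(X, W)[X]) (n : ℕ), q.coeff 0 = 1 → IsUnit ((q ^ n : Γ(X, W)[X]) : (Γ(X, W))⟦X⟧) := by
    intro q n hq
    rw [PowerSeries.isUnit_iff_constantCoeff, Polynomial.constantCoeff_coe,
      Polynomial.coeff_zero_eq_eval_zero, Polynomial.eval_pow, ← Polynomial.coeff_zero_eq_eval_zero, hq, one_pow]
    exact isUnit_one
  have h4 := congrArg (fun q : Γ(X, W)[X] => (q : (Γ(X, W))⟦X⟧)) hr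
  simp only [Polynomial.coe_mul, ← hφ, ← hφ'] at h4
  have hbb : (b * b').coeff 0 = 1 := by rw [Polynomial.mul_coeff_zero, hb, hb', one_mul]
  have h5 := (hunit (b * b') r hbb).mul_left_cancel h4
  rw [mul_assoc, mul_assoc, mul_comm (↑(b' ^ m') : (Γ(X, W))⟦X⟧)] at h5
  exact ((hunit b m hb).mul (hunit b' m' hb')).mul_right_cancel h5

theorem coe_transHom {W' : X.Opens} (h : W' ≤ W) (v : Γ(X, W')) (q : Γ(X, W)[X]) :
    (((transHom h v).hom q : Γ(X, W')[X]) : (Γ(X, W'))⟦X⟧) =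
      PowerSeries.rescale v (PowerSeries.map (X.presheaf.map (homOfLE h).op).hom (q : (Γ(X, W))⟦X⟧)) := by
  change ((Polynomial.coeToPowerSeries.ringHom).comp (transHom h v).hom) q =
    (((PowerSeries.rescale v).comp (PowerSeries.map (X.presheaf.map (homOfLE h).op).hom)).comp
      Polynomial.coeToPowerSeries.ringHom) q
  congr 1
  refine Polynomial.ringHom_ext (fun a => ?_) ?_
  · simp only [RingHom.comp_apply, Polynomial.coeToPowerSeries.ringHom_apply, Polynomial.coe_C,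
      PowerSeries.map_C]
    rw [show (transHom h v).hom (Polynomial.C a) = Polynomial.C ((X.presheaf.map (homOfLE h).op).hom a) from
      Polynomial.eval₂_C _ _, Polynomial.coe_C]
    ext n
    rw [PowerSeries.coeff_rescale, PowerSeries.coeff_C]
    split_ifs with hn
    · rw [hn, pow_zero, one_mul]
    · rw [mul_zero]
  · simp only [RingHom.comp_apply, Polynomial.coeToPowerSeries.ringHom_apply, Polynomial.coe_X,
      PowerSeries.map_X, PowerSeries.rescale_X]
    rw [show (transHom h v).hom (Polynomial.X : Γ(X, W)[X]) = Polynomial.C v * Polynomial.X from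
      Polynomial.eval₂_X _ _, Polynomial.coe_mul, Polynomial.coe_C, Polynomial.coe_X]

/-- The coefficients change as sections of the powers of the bundle. -/
theorem coeff_isExp_res {N : 𝒜.toQCAlg.spec.Opens} {F : Γ(𝒜.toQCAlg.spec, N)} {φ : (Γ(X, W))⟦X⟧}
    (hφ : IsExp ht F φ) {W' : X.Opens} {hW' : IsAffineOpen W'} {t' : 𝒜.presheaf.obj (op W')}
    (ht' : IsFrame 𝒜 W' hW' t') (hle : W' ≤ W) {φ' : (Γ(X, W'))⟦X⟧} (hφ' : IsExp ht' F φ') (n : ℕ) :
    rz hle ((𝒜.str.app (op W)).hom (PowerSeries.coeff n φ) * t ^ n) =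
      (𝒜.str.app (op W')).hom (PowerSeries.coeff n φ') * t' ^ n := by
  obtain ⟨v, hv⟩ := ht'.surj 1 _ (𝒜.map_mem hW hW' hle ht.mem)
  rw [pow_one] at hv
  obtain ⟨b, e, m, h, hb, he, hφe⟩ := hφ
  obtain ⟨h', he'⟩ := exists_transport ht F ht' (transHom hle v) (transHom_chi ht ht' hle v hv) b e m h he
    ((transHom hle v).hom b) (IsLocalization.Away.algebraMap_isUnit _)
  have hexp : IsExp ht' F (PowerSeries.rescale v (PowerSeries.map (X.presheaf.map (homOfLE hle).op).hom φ)) := by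
    refine ⟨(transHom hle v).hom b, (transHom hle v).hom e, m, h', ?_, he', ?_⟩
    · have h1 := congrArg PowerSeries.constantCoeff (coe_transHom hle v b)
      rw [Polynomial.constantCoeff_coe, ← PowerSeries.coeff_zero_eq_constantCoeff_apply, PowerSeries.coeff_rescale,
        PowerSeries.coeff_map, Polynomial.coeff_coe, hb, map_one, pow_zero, one_mul] at h1
      exact h1
    · rw [← map_pow, coe_transHom, coe_transHom, ← hφe, map_mul, map_mul]
  rw [isExp_unique ht' hφ' hexp, PowerSeries.coeff_rescale, PowerSeries.coeff_map, map_mul, map_pow]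
  rw [rz, map_mul, map_pow]
  rw [show (𝒜.presheaf.map (homOfLE hle).op).hom t = _ from hv,
    show (𝒜.presheaf.map (homOfLE hle).op).hom ((𝒜.str.app (op W)).hom (PowerSeries.coeff n φ)) = _ from rz_str _ _]
  ring

theorem chi_mem_basicOpen {N : 𝒜.toQCAlg.spec.Opens} {F : Γ(𝒜.toQCAlg.spec, N)} {b e : Γ(X, W)[X]} {m : ℕ}
    {h : ⊤ ≤ bchart ht b ⁻¹ᵁ N}
    (he : (ev (bchart ht b) N h).hom F * algebraMap Γ(X, W)[X] (Localization.Away b) (b ^ m) =
      algebraMap Γ(X, W)[X] (Localization.Away b) e) (P : PrimeSpectrum Γ(X, W)[X]) (hP : b ∉ P.asIdeal) :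
    chi ht P ∈ N ∧ (chi ht P ∈ 𝒜.toQCAlg.spec.basicOpen F ↔ e ∉ P.asIdeal) := by
  obtain ⟨Q, rfl⟩ : P ∈ Set.range (PrimeSpectrum.comap (algebraMap Γ(X, W)[X] (Localization.Away b))) := by
    rw [PrimeSpectrum.localization_away_comap_range (Localization.Away b) b]
    exact hP
  refine ⟨h (x := Q) trivial, (mem_basicOpen_iff (bchart ht b) h F Q).trans (not_congr ?_)⟩
  change _ ↔ algebraMap Γ(X, W)[X] (Localization.Away b) e ∈ Q.asIdeal
  rw [← he]
  refine ⟨fun hF => Ideal.mul_mem_right _ _ hF, fun hF => (Q.isPrime.mem_or_mem hF).resolve_right fun hb => hP ?_⟩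
  rw [map_pow] at hb
  exact Q.isPrime.mem_of_pow_mem m hb

/-- Zeros of an expansion. -/
theorem exists_coeff_notMem_iff {N : 𝒜.toQCAlg.spec.Opens} {F : Γ(𝒜.toQCAlg.spec, N)} {φ : (Γ(X, W))⟦X⟧}
    (hφ : IsExp ht F φ) (y : PrimeSpectrum Γ(X, W)) :
    chi ht (genPt y) ∈ N ∧
      (chi ht (genPt y) ∈ 𝒜.toQCAlg.spec.basicOpen F ↔ ∃ n, PowerSeries.coeff n φ ∉ y.asIdeal) ∧
      (chi ht (zeroPt y) ∈ 𝒜.toQCAlg.spec.basicOpen F ↔ PowerSeries.coeff 0 φ ∉ y.asIdeal) := by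
  obtain ⟨b, e, m, h, hb, he, hφe⟩ := hφ
  have hy1 : (1 : Γ(X, W)) ∉ y.asIdeal := fun h1 => y.isPrime.ne_top ((Ideal.eq_top_iff_one _).2 h1)
  have hg : b ∉ (genPt y).asIdeal := fun h1 => hy1 (hb ▸ mem_genPt.1 h1 0)
  have hz : b ∉ (zeroPt y).asIdeal := fun h1 => hy1 (hb ▸ mem_zeroPt.1 h1)
  obtain ⟨h1, h2⟩ := chi_mem_basicOpen ht he (genPt y) hg
  obtain ⟨-, h3⟩ := chi_mem_basicOpen ht he (zeroPt y) hz
  refine ⟨h1, h2.trans ?_, h3.trans ?_⟩
  · let θ := PowerSeries.map (Ideal.Quotient.mk y.asIdeal)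
    have hθ := congrArg θ hφe
    rw [map_mul] at hθ
    haveI := y.isPrime
    have hbne : θ ↑(b ^ m) ≠ 0 := fun h0 => by
      have := congrArg PowerSeries.constantCoeff h0
      simp only [θ, Polynomial.coe_pow, map_pow, map_zero, ← PowerSeries.coeff_zero_eq_constantCoeff_apply,
        PowerSeries.coeff_map] at this
      rw [PowerSeries.coeff_zero_eq_constantCoeff_apply, Polynomial.constantCoeff_coe, hb, map_one,
        one_pow, ← map_one (Ideal.Quotient.mk y.asIdeal)] at this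
      exact hy1 (Ideal.Quotient.eq_zero_iff_mem.1 this)
    have key : (∀ n, e.coeff n ∈ y.asIdeal) ↔ ∀ n, PowerSeries.coeff n φ ∈ y.asIdeal := by
      have e1 : (∀ n, e.coeff n ∈ y.asIdeal) ↔ θ ↑e = 0 := by
        simp only [θ, PowerSeries.ext_iff, PowerSeries.coeff_map, Polynomial.coeff_coe, map_zero,
          Ideal.Quotient.eq_zero_iff_mem]
      have e2 : (∀ n, PowerSeries.coeff n φ ∈ y.asIdeal) ↔ θ φ = 0 := by
        simp only [θ, PowerSeries.ext_iff, PowerSeries.coeff_map, map_zero, Ideal.Quotient.eq_zero_iff_mem]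
      rw [e1, e2, ← hθ, mul_eq_zero, or_iff_left hbne]
    rw [mem_genPt, key, not_forall]
  · rw [mem_zeroPt]
    have h0 := congrArg PowerSeries.constantCoeff hφe
    rw [map_mul, Polynomial.constantCoeff_coe, Polynomial.constantCoeff_coe,
      Polynomial.coeff_zero_eq_eval_zero (b ^ m), Polynomial.eval_pow, ← Polynomial.coeff_zero_eq_eval_zero, hb,
      one_pow, mul_one, ← PowerSeries.coeff_zero_eq_constantCoeff_apply] at h0
    rw [h0]

end Groth.Agent.Lib.Contraction
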