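import Groth.Agent.Lib.ProjQ.SecAlg
import Groth.Agent.Lib.Contraction.Ev
import Groth.Agent.Lib.RelSpecBasics.Gamma
import Groth.Prelude.Def_RelSpec2
import Mathlib.RingTheory.Polynomial.Basic

/-!
# Polynomial charts of a line bundle
-/

set_option autoImplicit false
universe u

open CategoryTheory CategoryTheory.Limits AlgebraicGeometry TopologicalSpace Opposite
open Groth.Agent.Lib.ProjQ Groth.Agent.Lib.ProjQ.SecAlg
open scoped Polynomial

noncomputable section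

namespace Groth.Agent.Lib.Contraction

variable {X : Scheme.{u}} {𝒜 : RelProj.QCGrAlg X}
variable {W : X.Opens} {hW : IsAffineOpen W} {t : 𝒜.presheaf.obj (op W)}

/-- Polynomials in the frame. -/
def polyHom (t : 𝒜.presheaf.obj (op W)) : Γ(X, W)[X] →+* 𝒜.presheaf.obj (op W) :=
  Polynomial.eval₂RingHom (𝒜.str.app (op W)).hom t

theorem polyHom_monomial (n : ℕ) (a : Γ(X, W)) :
    polyHom t (Polynomial.monomial n a) = (𝒜.str.app (op W)).hom a * t ^ n :=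
  Polynomial.eval₂_monomial _ _

theorem polyHom_C_mul_X_pow (n : ℕ) (a : Γ(X, W)) :
    polyHom t (Polynomial.C a * Polynomial.X ^ n) = (𝒜.str.app (op W)).hom a * t ^ n := by
  rw [Polynomial.C_mul_X_pow_eq_monomial, polyHom_monomial]

theorem proj_polyHom (ht : IsFrame 𝒜 W hW t) (q : Γ(X, W)[X]) (n : ℕ) :
    GradedRing.proj (𝒜.deg W hW) n (polyHom t q) = (𝒜.str.app (op W)).hom (q.coeff n) * t ^ n := by
  classical
  have hmem : ∀ (a : Γ(X, W)) (k : ℕ), (𝒜.str.app (op W)).hom a * t ^ k ∈ 𝒜.deg W hW k := fun a k => by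
    simpa using SetLike.mul_mem_graded (𝒜.str_mem W hW a) (SetLike.pow_mem_graded k ht.mem)
  induction q using Polynomial.induction_on' with
  | add q r hq hr => simp only [map_add, hq, hr, Polynomial.coeff_add, add_mul]
  | monomial k a =>
    rw [polyHom_monomial, Polynomial.coeff_monomial]
    by_cases hk : k = n
    · subst hk
      rw [if_pos rfl]
      exact DirectSum.decompose_of_mem_same _ (hmem a k)
    · rw [if_neg hk, map_zero, zero_mul]
      exact DirectSum.decompose_of_mem_ne _ (hmem a k) hk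

theorem polyHom_bijective (ht : IsFrame 𝒜 W hW t) : Function.Bijective (polyHom (𝒜 := 𝒜) t) := by
  classical
  refine ⟨(injective_iff_map_eq_zero _).2 fun q hq => Polynomial.ext fun n => ?_, fun z => ?_⟩
  · rw [Polynomial.coeff_zero]
    exact ht.inj n _ ((proj_polyHom ht q n).symm.trans (by rw [hq, map_zero]))
  · rw [← RingHom.mem_range, ← DirectSum.sum_support_decompose (𝒜.deg W hW) z]
    refine sum_mem fun n _ => ?_
    obtain ⟨a, ha⟩ := ht.surj n _ (SetLike.coe_mem ((DirectSum.decompose (𝒜.deg W hW) z) n))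
    exact ⟨Polynomial.C a * Polynomial.X ^ n, (polyHom_C_mul_X_pow n a).trans ha.symm⟩

/-- The sections over a frame as polynomials. -/
def polyEquiv (ht : IsFrame 𝒜 W hW t) : Γ(X, W)[X] ≃+* 𝒜.presheaf.obj (op W) :=
  RingEquiv.ofBijective (polyHom t) (polyHom_bijective ht)

/-- The coordinate ring of a chart of the line bundle. -/
abbrev A1 (W : X.Opens) : CommRingCat.{u} := CommRingCat.of Γ(X, W)[X]

/-- The inverse of `polyHom`. -/
def toPoly (ht : IsFrame 𝒜 W hW t) : 𝒜.presheaf.obj (op W) ⟶ A1 W :=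
  (polyEquiv ht).symm.toCommRingCatIso.hom

instance (ht : IsFrame 𝒜 W hW t) : IsIso (toPoly ht) := by
  dsimp only [toPoly]; infer_instance

theorem toPoly_polyHom (ht : IsFrame 𝒜 W hW t) (q : Γ(X, W)[X]) : (toPoly ht).hom (polyHom t q) = q :=
  (polyEquiv ht).symm_apply_apply q

theorem str_toPoly (ht : IsFrame 𝒜 W hW t) :
    𝒜.str.app (op W) ≫ toPoly ht = CommRingCat.ofHom Polynomial.C := by
  refine CommRingCat.hom_ext (RingHom.ext fun a => ?_)
  refine (congrArg (toPoly ht).hom ?_).trans (toPoly_polyHom ht (Polynomial.C a))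
  exact (Polynomial.eval₂_C _ _).symm

theorem eval_zero_toPoly (ht : IsFrame 𝒜 W hW t) {aug : 𝒜.toQCAlg ⟶ RelSpec.QCAlg.unit X}
    (haug : RelCone.IsAugmentation 𝒜 aug) :
    aug.hom.app (op W) = toPoly ht ≫ CommRingCat.ofHom (Polynomial.evalRingHom 0) := by
  ext z
  obtain ⟨q, rfl⟩ := (polyHom_bijective ht).2 z
  refine Eq.trans ?_ (congrArg (Polynomial.eval 0) (toPoly_polyHom ht q)).symm
  induction q using Polynomial.induction_on' with
  | add q r hq hr => rw [map_add, map_add, hq, hr, Polynomial.eval_add]; rfl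
  | monomial k a =>
    rw [polyHom_monomial, Polynomial.eval_monomial]
    cases k with
    | zero =>
      rw [pow_zero, mul_one, pow_zero, mul_one]
      exact congr($(NatTrans.congr_app aug.comm (op W)) a)
    | succ k =>
      rw [zero_pow (Nat.succ_ne_zero k), mul_zero]
      exact haug W hW k _ (by
        simpa using SetLike.mul_mem_graded (𝒜.str_mem W hW a) (SetLike.pow_mem_graded (k + 1) ht.mem))

/-- The chart of the line bundle attached to a frame. -/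
def chi (ht : IsFrame 𝒜 W hW t) : Spec (A1 W) ⟶ 𝒜.toQCAlg.spec :=
  Spec.map (toPoly ht) ≫ 𝒜.toQCAlg.ι W hW

instance (ht : IsFrame 𝒜 W hW t) : IsOpenImmersion (chi ht) := by
  dsimp only [chi]; infer_instance

theorem opensRange_chi (ht : IsFrame 𝒜 W hW t) : (chi ht).opensRange = 𝒜.toQCAlg.π ⁻¹ᵁ W := by
  change (Spec.map (toPoly ht) ≫ 𝒜.toQCAlg.ι W hW).opensRange = _
  rw [Scheme.Hom.opensRange_comp_of_isIso, RelSpec.QCAlg.π_preimage]

theorem top_le_chi (ht : IsFrame 𝒜 W hW t) {O : X.Opens} (h : W ≤ O) :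
    ⊤ ≤ chi ht ⁻¹ᵁ (𝒜.toQCAlg.π ⁻¹ᵁ O) := fun P _ =>
  𝒜.toQCAlg.π.preimage_mono h ((opensRange_chi ht).le ⟨P, rfl⟩)

theorem chi_π (ht : IsFrame 𝒜 W hW t) :
    chi ht ≫ 𝒜.toQCAlg.π = Spec.map (CommRingCat.ofHom Polynomial.C) ≫ hW.fromSpec := by
  rw [chi, Category.assoc, RelSpec.QCAlg.ι_π, ← Spec.map_comp_assoc, str_toPoly]

theorem fromSpec_vertex (ht : IsFrame 𝒜 W hW t) {aug : 𝒜.toQCAlg ⟶ RelSpec.QCAlg.unit X}
    (haug : RelCone.IsAugmentation 𝒜 aug) {j0 : X ⟶ 𝒜.toQCAlg.spec} (hj0 : RelCone.IsVertex 𝒜 aug j0) :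
    hW.fromSpec ≫ j0 = Spec.map (CommRingCat.ofHom (Polynomial.evalRingHom 0)) ≫ chi ht := by
  rw [hj0.chart W hW, chi]
  rw [show aug.hom.app (op W) = _ from eval_zero_toPoly ht haug]
  exact congrArg (· ≫ 𝒜.toQCAlg.ι W hW) (Spec.map_comp _ _)

/-- The prime `𝔭 A[X] + (X)`. -/
def zeroPt (x : PrimeSpectrum Γ(X, W)) : PrimeSpectrum Γ(X, W)[X] :=
  PrimeSpectrum.comap (Polynomial.evalRingHom 0) x

/-- The prime `𝔭 A[X]`. -/
def genPt (x : PrimeSpectrum Γ(X, W)) : PrimeSpectrum Γ(X, W)[X] :=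
  ⟨Ideal.map Polynomial.C x.asIdeal, haveI := x.isPrime; Ideal.isPrime_map_C_of_isPrime⟩

theorem mem_genPt {x : PrimeSpectrum Γ(X, W)} {q : Γ(X, W)[X]} :
    q ∈ (genPt x).asIdeal ↔ ∀ n, q.coeff n ∈ x.asIdeal :=
  Ideal.mem_map_C_iff

theorem mem_zeroPt {x : PrimeSpectrum Γ(X, W)} {q : Γ(X, W)[X]} :
    q ∈ (zeroPt x).asIdeal ↔ q.coeff 0 ∈ x.asIdeal := by
  rw [Polynomial.coeff_zero_eq_eval_zero]
  exact Iff.rfl

theorem chi_mem_range_iff (ht : IsFrame 𝒜 W hW t) {aug : 𝒜.toQCAlg ⟶ RelSpec.QCAlg.unit X}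
    (haug : RelCone.IsAugmentation 𝒜 aug) {j0 : X ⟶ 𝒜.toQCAlg.spec} (hj0 : RelCone.IsVertex 𝒜 aug j0)
    (P : PrimeSpectrum Γ(X, W)[X]) :
    chi ht P ∈ Set.range j0.base ↔ Polynomial.X ∈ P.asIdeal := by
  have hfs : ∀ y : PrimeSpectrum Γ(X, W), j0 (hW.fromSpec y) = chi ht (zeroPt y) := fun y =>
    congr($(fromSpec_vertex ht haug hj0) y)
  have hπ : ∀ Q : PrimeSpectrum Γ(X, W)[X],
      𝒜.toQCAlg.π (chi ht Q) = hW.fromSpec (PrimeSpectrum.comap Polynomial.C Q) := fun Q =>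
    congr($(chi_π ht) Q)
  refine ⟨?_, fun hX => ⟨hW.fromSpec (PrimeSpectrum.comap Polynomial.C P), ?_⟩⟩
  · rintro ⟨x, hx⟩
    have e : x = hW.fromSpec (PrimeSpectrum.comap Polynomial.C P) := by
      rw [← hπ P, ← hx]
      exact (congr($(hj0.comp_π) x)).symm
    have e2 : zeroPt (PrimeSpectrum.comap Polynomial.C P) = P :=
      (chi ht).injective ((hfs _).symm.trans (by rw [← e]; exact hx))
    rw [← e2, mem_zeroPt, Polynomial.coeff_X_zero]
    exact zero_mem _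
  · refine (hfs _).trans (congrArg _ (PrimeSpectrum.ext (Ideal.ext fun q => ?_)))
    rw [mem_zeroPt]
    have hq : q - Polynomial.C (q.coeff 0) ∈ P.asIdeal :=
      Ideal.mem_of_dvd _ (Polynomial.X_dvd_sub_C (p := q)) hX
    change Polynomial.C (q.coeff 0) ∈ P.asIdeal ↔ q ∈ P.asIdeal
    constructor
    · intro h
      simpa using add_mem hq h
    · intro h
      simpa using sub_mem h hq

/-- A section of the algebra as a function on the total space. -/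
def sec (𝒜 : RelProj.QCGrAlg X) (T : X.Opens) (z : 𝒜.presheaf.obj (op T)) :
    Γ(𝒜.toQCAlg.spec, 𝒜.toQCAlg.π ⁻¹ᵁ T) :=
  haveI := RelSpecBasics.Gamma.isIso_gammaMap 𝒜.toQCAlg
  ((inv 𝒜.toQCAlg.gammaMap).app (op T)).hom z

theorem gammaMap_sec (T : X.Opens) (z : 𝒜.presheaf.obj (op T)) :
    (𝒜.toQCAlg.gammaMap.app (op T)).hom (sec 𝒜 T z) = z :=
  haveI := RelSpecBasics.Gamma.isIso_gammaMap 𝒜.toQCAlg
  congr($(NatTrans.congr_app (IsIso.inv_hom_id 𝒜.toQCAlg.gammaMap) (op T)) z)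

theorem ev_ι {T : X.Opens} (h : W ≤ T) (e : ⊤ ≤ 𝒜.toQCAlg.ι W hW ⁻¹ᵁ (𝒜.toQCAlg.π ⁻¹ᵁ T))
    (c : Γ(𝒜.toQCAlg.spec, 𝒜.toQCAlg.π ⁻¹ᵁ T)) :
    ev (𝒜.toQCAlg.ι W hW) (𝒜.toQCAlg.π ⁻¹ᵁ T) e c = rz h ((𝒜.toQCAlg.gammaMap.app (op T)).hom c) := by
  rw [show rz h ((𝒜.toQCAlg.gammaMap.app (op T)).hom c) =
      (𝒜.toQCAlg.gammaMap.app (op W)).hom ((𝒜.toQCAlg.spec.presheaf.map
        (homOfLE (𝒜.toQCAlg.π.preimage_mono h)).op).hom c) from
    (congr($(𝒜.toQCAlg.gammaMap.naturality (homOfLE h).op) c)).symm,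
    RelSpec.QCAlg.gammaMap_app]
  exact (ev_res_apply _ (𝒜.toQCAlg.π.preimage_mono h) (𝒜.toQCAlg.top_le_preimage W hW) c).symm

theorem ev_chi_eq (ht : IsFrame 𝒜 W hW t) {T : X.Opens} (h : W ≤ T)
    (c : Γ(𝒜.toQCAlg.spec, 𝒜.toQCAlg.π ⁻¹ᵁ T)) :
    ev (chi ht) (𝒜.toQCAlg.π ⁻¹ᵁ T) (top_le_chi ht h) c =
      (toPoly ht).hom (rz h ((𝒜.toQCAlg.gammaMap.app (op T)).hom c)) := by
  have e : ⊤ ≤ 𝒜.toQCAlg.ι W hW ⁻¹ᵁ (𝒜.toQCAlg.π ⁻¹ᵁ T) :=
    (𝒜.toQCAlg.top_le_preimage W hW).trans (Scheme.Hom.preimage_mono _ (𝒜.toQCAlg.π.preimage_mono h))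
  rw [← ev_ι h e c]
  exact congr($(ev_SpecMap (toPoly ht) (𝒜.toQCAlg.ι W hW) e) c)

theorem ev_chi_sec (ht : IsFrame 𝒜 W hW t) {T : X.Opens} (h : W ≤ T) {n : ℕ}
    {z : 𝒜.presheaf.obj (op T)} {a : Γ(X, W)} (ha : rz h z = (𝒜.str.app (op W)).hom a * t ^ n) :
    ev (chi ht) (𝒜.toQCAlg.π ⁻¹ᵁ T) (top_le_chi ht h) (sec 𝒜 T z) = Polynomial.C a * Polynomial.X ^ n := by
  rw [ev_chi_eq ht h, gammaMap_sec, ha, ← polyHom_C_mul_X_pow, toPoly_polyHom]

/-- Change of frame on a smaller open. -/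
def transHom {W' : X.Opens} (h : W' ≤ W) (v : Γ(X, W')) : A1 W ⟶ A1 W' :=
  CommRingCat.ofHom (Polynomial.eval₂RingHom (Polynomial.C.comp (X.presheaf.map (homOfLE h).op).hom)
    (Polynomial.C v * Polynomial.X))

theorem transHom_chi (ht : IsFrame 𝒜 W hW t) {W' : X.Opens} {hW' : IsAffineOpen W'}
    {t' : 𝒜.presheaf.obj (op W')} (ht' : IsFrame 𝒜 W' hW' t') (h : W' ≤ W) (v : Γ(X, W'))
    (hv : rz h t = (𝒜.str.app (op W')).hom v * t') :
    Spec.map (transHom h v) ≫ chi ht = chi ht' := by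
  have e1 : ⊤ ≤ (Spec.map (transHom h v) ≫ chi ht) ⁻¹ᵁ (𝒜.toQCAlg.π ⁻¹ᵁ W) :=
    Scheme.Hom.preimage_mono (Spec.map (transHom h v)) (top_le_chi ht le_rfl)
  refine hom_ext_ev (hW.preimage 𝒜.toQCAlg.π) e1 (top_le_chi ht' h) (CommRingCat.hom_ext (RingHom.ext fun c => ?_))
  rw [ev_chi_eq ht' h, ev_SpecMap (transHom h v) (chi ht) (top_le_chi ht le_rfl)]
  show (transHom h v).hom (ev (chi ht) _ (top_le_chi ht le_rfl) c) = _
  rw [ev_chi_eq ht le_rfl, rz_self]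
  generalize (𝒜.toQCAlg.gammaMap.app (op W)).hom c = z
  obtain ⟨q, rfl⟩ := (polyHom_bijective ht).2 z
  rw [toPoly_polyHom]
  refine Eq.trans (toPoly_polyHom ht' _).symm (congrArg (toPoly ht').hom ?_)
  induction q using Polynomial.induction_on' with
  | add q r hq hr => simp only [map_add, hq, hr, rz]
  | monomial k a =>
    rw [← Polynomial.C_mul_X_pow_eq_monomial, map_mul, map_pow, polyHom_C_mul_X_pow]
    rw [show (transHom h v).hom (Polynomial.C a) = Polynomial.C ((X.presheaf.map (homOfLE h).op).hom a) from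
        Polynomial.eval₂_C _ _,
      show (transHom h v).hom (Polynomial.X : Γ(X, W)[X]) = Polynomial.C v * Polynomial.X from
        Polynomial.eval₂_X _ _]
    rw [mul_pow, ← mul_assoc, ← Polynomial.C_pow, ← Polynomial.C_mul, polyHom_C_mul_X_pow,
      show rz h ((𝒜.str.app (op W)).hom a * t ^ k) = rz h ((𝒜.str.app (op W)).hom a) * rz h t ^ k by
        simp only [rz, map_mul, map_pow],
      rz_str, hv, map_mul, map_pow, mul_pow]
    ring

end Groth.Agent.Lib.Contraction
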