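import Groth.Agent.Lib.Contraction.Alg
import Groth.Agent.Lib.Contraction.LineChart
import Groth.Agent.Lib.ProjQ.PowMap
import Groth.Agent.S8258

/-!
# The contraction of the zero section attached to a relatively ample module
-/

set_option autoImplicit false
universe u

open CategoryTheory CategoryTheory.Limits AlgebraicGeometry TopologicalSpace Opposite
open Groth.Agent.Lib.ProjQ Groth.Agent.Lib.ProjQ.SecAlg
open scoped Polynomial

noncomputable section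

namespace Groth.Agent.Lib.Contraction

theorem bijective_app_basicOpen {V C : Scheme.{u}} (q : V ⟶ C) {O : C.Opens} (hO : IsAffineOpen O)
    {O' : V.Opens} (hO' : q ⁻¹ᵁ O = O') (hc : IsCompact (O' : Set V)) (hq : IsQuasiSeparated (O' : Set V))
    (e : Γ(C, O)) (hker : ∀ y : Γ(C, O), (q.appLE O O' hO'.ge).hom y = 0 → e * y = 0)
    (hsurj : ∀ r : Γ(V, O'), ∃ y : Γ(C, O), (q.appLE O O' hO'.ge).hom y = (q.appLE O O' hO'.ge).hom e * r) :
    Function.Bijective (q.app (C.basicOpen e)).hom := by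
  subst hO'
  simp only [Scheme.Hom.appLE_eq_app] at hker hsurj
  have hD := C.basicOpen_le e
  have eV : q ⁻¹ᵁ C.basicOpen e = V.basicOpen ((q.app O).hom e) := Scheme.preimage_basicOpen q e
  let rV := (V.presheaf.map (homOfLE (q.preimage_mono hD)).op).hom
  let rC := (C.presheaf.map (homOfLE hD).op).hom
  have nat : ∀ y, (q.app (C.basicOpen e)).hom (rC y) = rV ((q.app O).hom y) := fun y =>
    congr($(q.naturality (homOfLE hD).op) y)
  have hu : IsUnit (rC e) := isUnit_res_of_eq e hD rfl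
  refine ⟨(injective_iff_map_eq_zero _).2 fun c hc0 => ?_, fun z => ?_⟩
  · obtain ⟨n, y, hy⟩ := exists_res_eq_pow_mul hO.isCompact hO.isQuasiSeparated e hD rfl c
    have h0 : rV ((q.app O).hom y) = 0 := by
      rw [← nat, show rC y = rC e ^ n * c from hy, map_mul, hc0, mul_zero]
    obtain ⟨k, hk⟩ := exists_pow_mul_eq_zero_of_res hc _ (q.preimage_mono hD) eV _ h0
    have h2 : e * (e ^ k * y) = 0 := hker _ (by rw [map_mul, map_pow]; exact hk)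
    have h3 : rC e ^ (n + k + 1) * c = 0 := by
      have h4 := congrArg rC h2
      rw [map_mul, map_mul, map_pow, show rC y = rC e ^ n * c from hy, map_zero] at h4
      rw [← h4]; ring
    exact (hu.pow _).mul_right_eq_zero.1 h3
  · obtain ⟨n, r, hr⟩ := exists_res_eq_pow_mul hc hq ((q.app O).hom e) (q.preimage_mono hD) eV z
    obtain ⟨y, hy⟩ := hsurj r
    obtain ⟨u, hu'⟩ := hu.pow (n + 1)
    refine ⟨(↑u⁻¹ : Γ(C, C.basicOpen e)) * rC y, ((hu.pow (n + 1)).map (q.app (C.basicOpen e)).hom).mul_left_cancel ?_⟩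
    rw [← map_mul, ← mul_assoc, ← hu', Units.mul_inv, one_mul, nat, hy, map_mul,
      show rV r = rV ((q.app O).hom e) ^ n * z from hr, hu', map_pow, nat, pow_succ]
    ring

theorem isIso_restrict_of_iSup {V C : Scheme.{u}} (q : V ⟶ C) {ι : Type*} (D : ι → C.Opens) (O : C.Opens)
    (hO : O = iSup D) (h : ∀ i, IsIso (q ∣_ D i)) : IsIso (q ∣_ O) := by
  refine IsZariskiLocalAtTarget.of_iSup_eq_top (P := MorphismProperty.isomorphisms Scheme.{u})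
    (fun i => O.ι ⁻¹ᵁ D i) ?_ fun i => ?_
  · rw [← Scheme.Hom.preimage_iSup, ← hO, Scheme.Opens.ι_preimage_self]
  · refine ((MorphismProperty.isomorphisms Scheme.{u}).arrow_mk_iso_iff
      (morphismRestrictRestrict q O (O.ι ⁻¹ᵁ D i))).2 ?_
    have e : O.ι ''ᵁ O.ι ⁻¹ᵁ D i = D i := by
      rw [Scheme.Hom.image_preimage_eq_opensRange_inf, Scheme.Opens.opensRange_ι, inf_eq_right]
      exact hO ▸ le_iSup D i
    rw [e]
    exact h i

theorem isIso_of_appTop {Z Z' : Scheme.{u}} [IsAffine Z] [IsAffine Z'] (g : Z ⟶ Z') [IsIso g.appTop] : IsIso g := by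
  have h : Z.isoSpec.hom ≫ Spec.map g.appTop ≫ Z'.isoSpec.inv = g := by
    rw [Scheme.isoSpec_inv_naturality, Iso.hom_inv_id_assoc]
  rw [← h]
  infer_instance

theorem fromSpec_mem_basicOpen {X : Scheme.{u}} {W : X.Opens} (hW : IsAffineOpen W) (a : Γ(X, W))
    (y : PrimeSpectrum Γ(X, W)) : hW.fromSpec y ∈ X.basicOpen a ↔ a ∉ y.asIdeal :=
  SetLike.ext_iff.1 (hW.fromSpec_preimage_basicOpen a) y

variable {X Y : Scheme.{u}} (p : X ⟶ Y)
  {L : X.Modules} (hL : PicF.IsInvertible L) (hLq : Coh.IsQCoh L) {𝒜 : RelProj.QCGrAlg X} {jL : L ⟶ 𝒜.toModule}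
  (hA : RelProj.IsGrSymAlg L 𝒜 jL) {aug : 𝒜.toQCAlg ⟶ RelSpec.QCAlg.unit X}
  (haug : RelCone.IsAugmentation 𝒜 aug) {j0 : X ⟶ 𝒜.toQCAlg.spec} (hj0 : RelCone.IsVertex 𝒜 aug j0)

theorem π_chi {W : X.Opens} {hW : IsAffineOpen W} {t : 𝒜.presheaf.obj (op W)} (ht : IsFrame 𝒜 W hW t)
    (P : PrimeSpectrum Γ(X, W)[X]) :
    𝒜.toQCAlg.π (chi ht P) = hW.fromSpec (PrimeSpectrum.comap Polynomial.C P) :=
  congr($(chi_π ht) P)

/-- Membership in the locus of a section, in a chart. -/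
theorem chi_mem_sec_iff {T : X.Opens} {W : X.Opens} {hW : IsAffineOpen W} {t : 𝒜.presheaf.obj (op W)}
    (ht : IsFrame 𝒜 W hW t) (h : W ≤ T) {n : ℕ} (hn : 0 < n) {z : 𝒜.presheaf.obj (op T)} {a : Γ(X, W)}
    (ha : rz h z = (𝒜.str.app (op W)).hom a * t ^ n) (P : PrimeSpectrum Γ(X, W)[X]) :
    chi ht P ∈ 𝒜.toQCAlg.spec.basicOpen (sec 𝒜 T z) ↔ Polynomial.C a ∉ P.asIdeal ∧ Polynomial.X ∉ P.asIdeal := by
  rw [mem_basicOpen_iff (chi ht) (top_le_chi ht h)]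
  show ev (chi ht) _ (top_le_chi ht h) (sec 𝒜 T z) ∉ P.asIdeal ↔ _
  rw [ev_chi_sec ht h ha]
  constructor
  · exact fun hP => ⟨fun hC => hP (Ideal.mul_mem_right _ _ hC),
      fun hX => hP (Ideal.mul_mem_left _ _ (Ideal.pow_mem_of_mem _ hX n hn))⟩
  · rintro ⟨hC, hX⟩ hP
    rcases P.isPrime.mem_or_mem hP with h' | h'
    · exact hC h'
    · exact hX (P.isPrime.mem_of_pow_mem n h')

/-- The structure morphism of the line bundle over the base. -/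
abbrev str (p : X ⟶ Y) (𝒜 : RelProj.QCGrAlg X) : 𝒜.toQCAlg.spec ⟶ Y := 𝒜.toQCAlg.π ≫ p

include hj0 in
theorem comp_str : j0 ≫ str p 𝒜 = p := by rw [reassoc_of% hj0.comp_π]

include hL hLq hA haug hj0 in
/-- Sections of positive degree vanish on the zero section. -/
theorem appLE_vertex_sec {T : X.Opens} {n : ℕ} (hn : 0 < n) {z : 𝒜.presheaf.obj (op T)} (hz : IsHom 𝒜 n T z)
    (e : T ≤ j0 ⁻¹ᵁ (𝒜.toQCAlg.π ⁻¹ᵁ T)) :
    (j0.appLE (𝒜.toQCAlg.π ⁻¹ᵁ T) T e).hom (sec 𝒜 T z) = 0 := by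
  choose W hW t hxW hWT ht using fun x : T => exists_frame hL hLq hA (x := x.1) (W := T) x.2
  refine TopCat.Sheaf.eq_of_locally_eq' X.sheaf W T (fun x => homOfLE (hWT x))
    (fun x hx => Opens.mem_iSup.2 ⟨⟨x, hx⟩, hxW ⟨x, hx⟩⟩) _ _ fun x => ?_
  refine Eq.trans ?_ (map_zero _).symm
  obtain ⟨a, ha⟩ := (ht x).surj n _ (hz (W x) (hW x) (hWT x))
  let c := (X.presheaf.map (homOfLE (hWT x)).op).hom ((j0.appLE (𝒜.toQCAlg.π ⁻¹ᵁ T) T e).hom (sec 𝒜 T z))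
  change c = 0
  have e0 : ⊤ ≤ (hW x).fromSpec ⁻¹ᵁ W x := (hW x).fromSpec_preimage_self.ge
  have h1 : ev (hW x).fromSpec (W x) e0 c = c := congr($(ev_fromSpec (hW x)) c)
  rw [← h1, ev_res_apply _ (hWT x) e0, ← ev_comp_apply j0 (hW x).fromSpec e,
    ev_congr (fromSpec_vertex (ht x) haug hj0)]
  refine (congr($(ev_SpecMap (CommRingCat.ofHom (Polynomial.evalRingHom 0)) (chi (ht x))
    (top_le_chi (ht x) (hWT x))) (sec 𝒜 T z))).trans ?_
  change Polynomial.eval 0 (ev (chi (ht x)) _ (top_le_chi (ht x) (hWT x)) (sec 𝒜 T z)) = 0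
  rw [ev_chi_sec (ht x) (hWT x) ha, Polynomial.eval_mul, Polynomial.eval_pow, Polynomial.eval_X,
    zero_pow hn.ne', mul_zero]

include hL hLq hA haug hj0 in
theorem isAffineHom_vertexCompl_ι (V0 : 𝒜.toQCAlg.spec.Opens) (hV0 : (V0 : Set 𝒜.toQCAlg.spec) = (Set.range j0.base)ᶜ) :
    IsAffineHom V0.ι := by
  refine isAffineHom_of_forall_exists_isAffineOpen _ fun v => ?_
  obtain ⟨W, hW, t, hvW, -, ht⟩ := exists_frame hL hLq hA (x := 𝒜.toQCAlg.π v) (W := ⊤) trivial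
  refine ⟨𝒜.toQCAlg.π ⁻¹ᵁ W, hvW, hW.preimage 𝒜.toQCAlg.π, (V0.ι.isAffineOpen_iff_of_isOpenImmersion).1 ?_⟩
  have e : V0.ι ''ᵁ V0.ι ⁻¹ᵁ (𝒜.toQCAlg.π ⁻¹ᵁ W) =
      chi ht ''ᵁ PrimeSpectrum.basicOpen (Polynomial.X : Γ(X, W)[X]) := by
    rw [Scheme.Hom.image_preimage_eq_opensRange_inf, Scheme.Opens.opensRange_ι, ← opensRange_chi ht]
    ext w
    constructor
    · rintro ⟨hw0, P, rfl⟩
      refine ⟨P, fun hX => ?_, rfl⟩
      exact (hV0.le hw0) ((chi_mem_range_iff ht haug hj0 P).2 hX)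
    · rintro ⟨P, hP, rfl⟩
      exact ⟨hV0.ge fun h => hP ((chi_mem_range_iff ht haug hj0 P).1 h), P, rfl⟩
  rw [e]
  have h := (isAffineOpen_top (Spec (A1 W))).basicOpen ((Scheme.ΓSpecIso (A1 W)).inv Polynomial.X)
  rw [basicOpen_eq_of_affine] at h
  exact (chi ht).isAffineOpen_iff_of_isOpenImmersion.2 h

variable [IsSeparated p] [QuasiCompact p]

/-- Sections with affine locus over affine opens of the base. -/
structure Chart (p : X ⟶ Y) (𝒜 : RelProj.QCGrAlg X) where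
  /-- the affine open -/
  U : Y.Opens
  hU : IsAffineOpen U
  /-- the degree -/
  n : ℕ
  hn : 0 < n
  /-- the section -/
  σ : 𝒜.presheaf.obj (op (p ⁻¹ᵁ U))
  hσ : IsHom 𝒜 n (p ⁻¹ᵁ U) σ
  aff : IsAffineOpen (loc 𝒜 n (p ⁻¹ᵁ U) σ)

/-- The cone. -/
abbrev Cn : Scheme.{u} := cone p (str p 𝒜) j0 (comp_str p hj0)

include hL hLq hA haug in
/-- The pair attached to a section of positive degree. -/
theorem mem_pairs_sec {U : Y.Opens} {n : ℕ} (hn : 0 < n) {z : 𝒜.presheaf.obj (op (p ⁻¹ᵁ U))}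
    (hz : IsHom 𝒜 n (p ⁻¹ᵁ U) z) :
    ((0 : Γ(Y, U)), sec 𝒜 (p ⁻¹ᵁ U) z) ∈ pairs p (str p 𝒜) j0 (comp_str p hj0) U :=
  mem_pairs.2 ((map_zero _).trans (appLE_vertex_sec hL hLq hA haug hj0 hn hz _).symm)

/-- The function on the cone attached to a chart. -/
def chartElt (i : Chart p 𝒜) : Γ(Cn p hj0, coneProj p (str p 𝒜) j0 (comp_str p hj0) ⁻¹ᵁ i.U) :=
  elt p (str p 𝒜) j0 (comp_str p hj0) i.U ⟨_, mem_pairs_sec p hL hLq hA haug hj0 i.hn i.hσ⟩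

theorem preimage_chartElt (i : Chart p 𝒜) :
    coneMap p (str p 𝒜) j0 (comp_str p hj0) ⁻¹ᵁ (Cn p hj0).basicOpen (chartElt p hL hLq hA haug hj0 i) =
      𝒜.toQCAlg.spec.basicOpen (sec 𝒜 (p ⁻¹ᵁ i.U) i.σ) := by
  have hle : coneMap p (str p 𝒜) j0 (comp_str p hj0) ⁻¹ᵁ (Cn p hj0).basicOpen (chartElt p hL hLq hA haug hj0 i) ≤
      str p 𝒜 ⁻¹ᵁ i.U := by
    refine (Scheme.Hom.preimage_mono _ ((Cn p hj0).basicOpen_le _)).trans ?_
    rw [← Scheme.Hom.comp_preimage, coneMap_proj]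
  rw [← inf_eq_right.2 hle, ← Scheme.basicOpen_appLE _ _ _
    (AffAlgBij.le_preimage _ (coneMap_proj p (str p 𝒜) j0 (comp_str p hj0)) i.U), chartElt, map_app_elt]
  rfl

theorem preimage_vertex_chartElt (i : Chart p 𝒜) :
    coneVertex p (str p 𝒜) j0 (comp_str p hj0) ⁻¹ᵁ (Cn p hj0).basicOpen (chartElt p hL hLq hA haug hj0 i) = ⊥ := by
  have hle : coneVertex p (str p 𝒜) j0 (comp_str p hj0) ⁻¹ᵁ (Cn p hj0).basicOpen (chartElt p hL hLq hA haug hj0 i) ≤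
      (𝟙 Y : Y ⟶ Y) ⁻¹ᵁ i.U := by
    refine (Scheme.Hom.preimage_mono _ ((Cn p hj0).basicOpen_le _)).trans ?_
    rw [← Scheme.Hom.comp_preimage, coneVertex_proj]
  rw [← inf_eq_right.2 hle, ← Scheme.basicOpen_appLE _ _ _
    (AffAlgBij.le_preimage _ (coneVertex_proj p (str p 𝒜) j0 (comp_str p hj0)) i.U), chartElt, vertex_app_elt]
  exact Scheme.basicOpen_zero _ _

include hL hLq hA in
theorem sec_le_loc (i : Chart p 𝒜) {PL : Scheme.{u}} {pL : PL ⟶ X}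
    {chartL : ∀ (U : X.Opens) (hU : IsAffineOpen U), ((pL ⁻¹ᵁ U : PL.Opens) : Scheme.{u}) ≅ Proj (𝒜.deg U hU)}
    (hPL : RelProj.IsRelProj 𝒜 pL chartL) :
    𝒜.toQCAlg.spec.basicOpen (sec 𝒜 (p ⁻¹ᵁ i.U) i.σ) ≤ 𝒜.toQCAlg.π ⁻¹ᵁ loc 𝒜 i.n (p ⁻¹ᵁ i.U) i.σ := by
  intro v hv
  obtain ⟨W, hW, t, hvW, hWT, ht⟩ := exists_frame hL hLq hA (x := 𝒜.toQCAlg.π v) (W := p ⁻¹ᵁ i.U)
    (𝒜.toQCAlg.spec.basicOpen_le _ hv)
  obtain ⟨a, ha⟩ := ht.surj i.n _ (i.hσ W hW hWT)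
  obtain ⟨P, rfl⟩ := (opensRange_chi ht).ge hvW
  have h1 : 𝒜.toQCAlg.π (chi ht P) ∈ X.basicOpen a := by
    rw [π_chi ht P, fromSpec_mem_basicOpen]
    exact ((chi_mem_sec_iff ht hWT i.hn ha P).1 hv).1
  rw [← loc_inf_frame hL hLq hA hPL i.hn i.σ i.hσ ht hWT ha] at h1
  exact h1.1

include hL hLq hA haug hj0 in
theorem sec_le_compl (i : Chart p 𝒜) (V0 : 𝒜.toQCAlg.spec.Opens)
    (hV0 : (V0 : Set 𝒜.toQCAlg.spec) = (Set.range j0.base)ᶜ) :
    𝒜.toQCAlg.spec.basicOpen (sec 𝒜 (p ⁻¹ᵁ i.U) i.σ) ≤ V0 := by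
  intro v hv
  obtain ⟨W, hW, t, hvW, hWT, ht⟩ := exists_frame hL hLq hA (x := 𝒜.toQCAlg.π v) (W := p ⁻¹ᵁ i.U)
    (𝒜.toQCAlg.spec.basicOpen_le _ hv)
  obtain ⟨a, ha⟩ := ht.surj i.n _ (i.hσ W hW hWT)
  obtain ⟨P, rfl⟩ := (opensRange_chi ht).ge hvW
  exact hV0.ge fun h => ((chi_mem_sec_iff ht hWT i.hn ha P).1 hv).2 ((chi_mem_range_iff ht haug hj0 P).1 h)

theorem isIso_restrict_chartElt (i : Chart p 𝒜) :
    IsIso (coneMap p (str p 𝒜) j0 (comp_str p hj0) ∣_ (Cn p hj0).basicOpen (chartElt p hL hLq hA haug hj0 i)) := by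
  obtain ⟨PL, pL, chartL, hPL⟩ := Groth.Agent.S8258.result 𝒜
  have hwj := comp_str p hj0
  have hO := i.hU.preimage (coneProj p (str p 𝒜) j0 hwj)
  have hO' : coneMap p (str p 𝒜) j0 hwj ⁻¹ᵁ (coneProj p (str p 𝒜) j0 hwj ⁻¹ᵁ i.U) = str p 𝒜 ⁻¹ᵁ i.U := by
    rw [← Scheme.Hom.comp_preimage, coneMap_proj]
  have haff : IsAffineOpen (coneMap p (str p 𝒜) j0 hwj ⁻¹ᵁ
      (Cn p hj0).basicOpen (chartElt p hL hLq hA haug hj0 i)) := by
    rw [preimage_chartElt, ← inf_eq_right.2 (sec_le_loc p hL hLq hA i hPL)]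
    rw [← Scheme.basicOpen_res 𝒜.toQCAlg.spec _
      (homOfLE (𝒜.toQCAlg.π.preimage_mono (loc_le i.n (p ⁻¹ᵁ i.U) i.σ))).op]
    exact (i.aff.preimage 𝒜.toQCAlg.π).basicOpen _
  haveI : IsAffine _ := haff
  haveI : IsAffine _ := hO.basicOpen (chartElt p hL hLq hA haug hj0 i)
  have hbij := bijective_app_basicOpen (coneMap p (str p 𝒜) j0 hwj) hO hO'
    ((str p 𝒜).isCompact_preimage i.hU.isCompact) ((str p 𝒜).isQuasiSeparated_preimage i.hU.isQuasiSeparated)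
    (chartElt p hL hLq hA haug hj0 i) (fun y hy => ?_) (fun r => ?_)
  · haveI : IsIso (coneMap p (str p 𝒜) j0 hwj ∣_ (Cn p hj0).basicOpen (chartElt p hL hLq hA haug hj0 i)).appTop := ?_
    · exact isIso_of_appTop _
    rw [morphismRestrict_appTop]
    have happ : IsIso ((coneMap p (str p 𝒜) j0 hwj).app
        (((Cn p hj0).basicOpen (chartElt p hL hLq hA haug hj0 i)).ι ''ᵁ ⊤)) := by
      rw [show ((Cn p hj0).basicOpen (chartElt p hL hLq hA haug hj0 i)).ι ''ᵁ ⊤ = _ from Scheme.Opens.ι_image_top _]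
      exact (ConcreteCategory.isIso_iff_bijective _).2 hbij
    exact @IsIso.comp_isIso _ _ _ _ _ _ _ happ (Functor.map_isIso _ _)
  · obtain ⟨⟨⟨a, r⟩, hx⟩, rfl⟩ := elt_surjective p (str p 𝒜) j0 hwj i.U y
    rw [map_app_elt] at hy
    haveI := RelSpecBasics.Gamma.isIso_gammaMap (pairsAlg p (str p 𝒜) j0 hwj)
    haveI : IsIso ((pairsAlg p (str p 𝒜) j0 hwj).gammaMap.app (op i.U)) := inferInstance
    apply (ConcreteCategory.bijective_of_isIso ((pairsAlg p (str p 𝒜) j0 hwj).gammaMap.app (op i.U))).1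
    rw [map_mul, map_zero, chartElt, gammaMap_elt, gammaMap_elt]
    refine Subtype.ext (Prod.ext (zero_mul a) ?_)
    let s' : Γ(𝒜.toQCAlg.spec, str p 𝒜 ⁻¹ᵁ i.U) := sec 𝒜 _ i.σ
    change s' * r = 0
    rw [show r = 0 from hy, mul_zero]
  · let s' : Γ(𝒜.toQCAlg.spec, str p 𝒜 ⁻¹ᵁ i.U) := sec 𝒜 _ i.σ
    have hmem : ((0 : Γ(Y, i.U)), s' * r) ∈ pairs p (str p 𝒜) j0 hwj i.U := by
      refine mem_pairs.2 ((map_zero _).trans ?_)
      rw [map_mul, ← mem_pairs.1 (mem_pairs_sec p hL hLq hA haug hj0 i.hn i.hσ), map_zero, zero_mul]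
    refine ⟨elt p (str p 𝒜) j0 hwj i.U ⟨_, hmem⟩, ?_⟩
    rw [map_app_elt, chartElt, map_app_elt]

include hL hLq hA haug hj0 in
theorem exists_chart_mem (h : RelAmple.IsRelAmple p L) (v : 𝒜.toQCAlg.spec) (hv : v ∉ Set.range j0.base) :
    ∃ i : Chart p 𝒜, v ∈ 𝒜.toQCAlg.spec.basicOpen (sec 𝒜 (p ⁻¹ᵁ i.U) i.σ) := by
  obtain ⟨PL, pL, chartL, hPL⟩ := Groth.Agent.S8258.result 𝒜
  obtain ⟨U, hU, hxU, -⟩ := exists_isAffineOpen_mem_and_subset (X := Y) (x := p (𝒜.toQCAlg.π v)) (U := ⊤) trivial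
  obtain ⟨n, hn, σ, hσ, hxσ, ha⟩ := exists_section_of_affineAt hL hLq hA hPL
    (⟨_, hxU⟩ : (p ⁻¹ᵁ U : X.Opens)) ((Ample.Pow.isAmple_iff.1 (h.2 ⟨U, hU⟩)).2.2 _)
  refine ⟨⟨U, hU, n, hn, σ, hσ, ha⟩, ?_⟩
  obtain ⟨W, hW, t, hvW, hWT, ht⟩ := exists_frame hL hLq hA (x := 𝒜.toQCAlg.π v) (W := p ⁻¹ᵁ U) hxU
  obtain ⟨a, haσ⟩ := ht.surj n _ (hσ W hW hWT)
  obtain ⟨P, rfl⟩ := (opensRange_chi ht).ge hvW
  refine (chi_mem_sec_iff ht hWT hn haσ P).2 ⟨fun hC => ?_, fun hX => hv ((chi_mem_range_iff ht haug hj0 P).2 hX)⟩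
  have h1 : 𝒜.toQCAlg.π (chi ht P) ∈ X.basicOpen a := by
    rw [← loc_inf_frame hL hLq hA hPL hn σ hσ ht hWT haσ]
    exact ⟨hxσ, hvW⟩
  rw [π_chi ht P, fromSpec_mem_basicOpen] at h1
  exact h1 hC

include hL hLq hA haug in
/-- The contraction attached to a relatively ample module. -/
theorem contraction (h : RelAmple.IsRelAmple p L) (V0 : 𝒜.toQCAlg.spec.Opens)
    (hV0 : (V0 : Set 𝒜.toQCAlg.spec) = (Set.range j0.base)ᶜ) :
    IsOpenImmersion (V0.ι ≫ coneMap p (str p 𝒜) j0 (comp_str p hj0)) ∧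
      QuasiCompact (V0.ι ≫ coneMap p (str p 𝒜) j0 (comp_str p hj0)) ∧
      Set.range (V0.ι ≫ coneMap p (str p 𝒜) j0 (comp_str p hj0)).base ∩
        Set.range (coneVertex p (str p 𝒜) j0 (comp_str p hj0)).base = ∅ := by
  let q := coneMap p (str p 𝒜) j0 (comp_str p hj0)
  let D := fun i : Chart p 𝒜 => (Cn p hj0).basicOpen (chartElt p hL hLq hA haug hj0 i)
  have hpre : V0 = q ⁻¹ᵁ iSup D := by
    rw [Scheme.Hom.preimage_iSup]
    refine le_antisymm (fun v hv => ?_) (iSup_le fun i => ?_)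
    · obtain ⟨i, hi⟩ := exists_chart_mem p hL hLq hA haug hj0 h v (hV0.le hv)
      exact Opens.mem_iSup.2 ⟨i, (preimage_chartElt p hL hLq hA haug hj0 i).ge hi⟩
    · exact (preimage_chartElt p hL hLq hA haug hj0 i).le.trans (sec_le_compl p hL hLq hA haug hj0 i V0 hV0)
  haveI := isIso_restrict_of_iSup q D _ rfl (isIso_restrict_chartElt p hL hLq hA haug hj0)
  refine ⟨?_, ?_, ?_⟩
  · subst hpre
    rw [← morphismRestrict_ι]
    infer_instance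
  · haveI := isAffineHom_vertexCompl_ι hL hLq hA haug hj0 V0 hV0
    haveI : QuasiCompact ((V0.ι ≫ q) ≫ coneProj p (str p 𝒜) j0 (comp_str p hj0)) := by
      rw [Category.assoc, coneMap_proj]; infer_instance
    exact QuasiCompact.of_comp (V0.ι ≫ q) (coneProj p (str p 𝒜) j0 (comp_str p hj0))
  · refine Set.eq_empty_iff_forall_notMem.2 ?_
    rintro _ ⟨⟨v, rfl⟩, y, hy⟩
    obtain ⟨i, hi⟩ := Opens.mem_iSup.1 (show q v.1 ∈ iSup D from hpre.le v.2)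
    have : y ∈ coneVertex p (str p 𝒜) j0 (comp_str p hj0) ⁻¹ᵁ D i := by
      change coneVertex p (str p 𝒜) j0 (comp_str p hj0) y ∈ D i
      rw [show coneVertex p (str p 𝒜) j0 (comp_str p hj0) y = q v.1 from hy]
      exact hi
    rw [preimage_vertex_chartElt] at this
    exact this

end Groth.Agent.Lib.Contraction
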