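import Groth.Agent.Lib.Contraction.Forward
import Mathlib.AlgebraicGeometry.Morphisms.Proper
import Mathlib.AlgebraicGeometry.Morphisms.Integral
import Mathlib.AlgebraicGeometry.Morphisms.FiniteType

/-!
# The contraction of the zero section for a proper morphism
-/

set_option autoImplicit false
universe u

open CategoryTheory CategoryTheory.Limits AlgebraicGeometry TopologicalSpace Opposite
open Groth.Agent.Lib.ProjQ Groth.Agent.Lib.ProjQ.SecAlg
open scoped Polynomial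

noncomputable section

namespace Groth.Agent.Lib.Contraction

theorem restrict_iff_SpecMap_ev (Q : MorphismProperty Scheme.{u}) [Q.RespectsIso] {V P : Scheme.{u}} (h : V ⟶ P)
    {O : P.Opens} (hO : IsAffineOpen O) {R : CommRingCat.{u}} (k : Spec R ⟶ V) [IsOpenImmersion k]
    (hk : k.opensRange = h ⁻¹ᵁ O) (e : ⊤ ≤ (k ≫ h) ⁻¹ᵁ O) :
    Q (h ∣_ O) ↔ Q (Spec.map (ev (k ≫ h) O e)) := by
  let φ : Spec R ≅ ((h ⁻¹ᵁ O : V.Opens) : Scheme.{u}) :=
    IsOpenImmersion.isoOfRangeEq k (h ⁻¹ᵁ O).ι (by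
      rw [Scheme.Opens.range_ι, ← hk]; exact k.coe_opensRange.symm)
  have hφ : φ.hom ≫ (h ⁻¹ᵁ O).ι = k := IsOpenImmersion.lift_fac _ _ _
  have key : φ.hom ≫ (h ∣_ O) = Spec.map (ev (k ≫ h) O e) ≫ hO.isoSpec.inv := by
    rw [← cancel_mono O.ι, Category.assoc, morphismRestrict_ι, reassoc_of% hφ, Category.assoc]
    exact (eq_SpecMap_ev (k ≫ h) hO e).symm
  rw [← Q.cancel_left_of_respectsIso φ.hom (h ∣_ O), key, Q.cancel_right_of_respectsIso]

theorem isIntegral_polynomial {A : Type u} {R : Type u} [CommRing A] [CommRing R] (ψ : R →+* A[X])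
    (hC : ∀ c : A, ψ.IsIntegralElem (Polynomial.C c)) (hX : ψ.IsIntegralElem Polynomial.X) : ψ.IsIntegral := by
  intro q
  induction q using Polynomial.induction_on with
  | C a => exact hC a
  | add q r hq hr => exact hq.add ψ hr
  | monomial n a h =>
    rw [pow_succ, ← mul_assoc]
    exact h.mul ψ hX

variable {X Y : Scheme.{u}}
  {L : X.Modules} (hL : PicF.IsInvertible L) (hLq : Coh.IsQCoh L) {𝒜 : RelProj.QCGrAlg X} {jL : L ⟶ 𝒜.toModule}
  (hA : RelProj.IsGrSymAlg L 𝒜 jL) {aug : 𝒜.toQCAlg ⟶ RelSpec.QCAlg.unit X}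
  (haug : RelCone.IsAugmentation 𝒜 aug) {j0 : X ⟶ 𝒜.toQCAlg.spec} (hj0 : RelCone.IsVertex 𝒜 aug j0)

include hL hLq hA in
theorem locallyOfFiniteType_π : LocallyOfFiniteType 𝒜.toQCAlg.π := by
  choose W hW t hxW _ ht using fun x : X => exists_frame hL hLq hA (x := x) (W := ⊤) trivial
  refine IsZariskiLocalAtTarget.of_iSup_eq_top (P := @LocallyOfFiniteType) W
    (top_le_iff.1 fun x _ => Opens.mem_iSup.2 ⟨x, hxW x⟩) fun x => ?_
  have e : ⊤ ≤ (chi (ht x) ≫ 𝒜.toQCAlg.π) ⁻¹ᵁ W x := top_le_chi (ht x) le_rfl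
  refine (restrict_iff_SpecMap_ev @LocallyOfFiniteType 𝒜.toQCAlg.π (hW x) (chi (ht x))
    (opensRange_chi (ht x)) e).2 ?_
  refine (HasRingHomProperty.Spec_iff (P := @LocallyOfFiniteType)).2 ?_
  rw [ev_congr (chi_π (ht x))]
  have h := ev_SpecMap (CommRingCat.ofHom (Polynomial.C : Γ(X, W x) →+* Γ(X, W x)[X])) (hW x).fromSpec
    (hW x).fromSpec_preimage_self.ge
  rw [ev_fromSpec, Category.id_comp] at h
  rw [show ev _ _ _ = _ from h]
  change RingHom.FiniteType (algebraMap Γ(X, W x) Γ(X, W x)[X])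
  exact RingHom.finiteType_algebraMap.2 inferInstance

variable (p : X ⟶ Y) [IsProper p]

include hL hLq hA haug hj0 in
theorem universallyClosed_coneMap (h : RelAmple.IsRelAmple p L) :
    UniversallyClosed (coneMap p (str p 𝒜) j0 (comp_str p hj0)) := by
  obtain ⟨PL, pL, chartL, hPL⟩ := Groth.Agent.S8258.result 𝒜
  let C := Cn p hj0
  let g := coneProj p (str p 𝒜) j0 (comp_str p hj0)
  let q := coneMap p (str p 𝒜) j0 (comp_str p hj0)
  have hqg : q ≫ g = 𝒜.toQCAlg.π ≫ p := coneMap_proj _ _ _ _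
  let l : 𝒜.toQCAlg.spec ⟶ pullback p g := pullback.lift 𝒜.toQCAlg.π q hqg.symm
  have hch : ∀ x : X, ∃ (i : Chart p 𝒜) (W : X.Opens) (hW : IsAffineOpen W) (t : 𝒜.presheaf.obj (op W)),
      x ∈ W ∧ W ≤ loc 𝒜 i.n (p ⁻¹ᵁ i.U) i.σ ∧ IsFrame 𝒜 W hW t := fun x => by
    obtain ⟨U, hU, hxU, -⟩ := exists_isAffineOpen_mem_and_subset (X := Y) (x := p x) (U := ⊤) trivial
    obtain ⟨n, hn, σ, hσ, hxσ, ha⟩ := exists_section_of_affineAt hL hLq hA hPL
      (⟨_, hxU⟩ : (p ⁻¹ᵁ U : X.Opens)) ((Ample.Pow.isAmple_iff.1 (h.2 ⟨U, hU⟩)).2.2 _)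
    obtain ⟨W, hW, t, hxW, hWl, ht⟩ := exists_frame hL hLq hA (x := x) (W := loc 𝒜 n (p ⁻¹ᵁ U) σ) hxσ
    exact ⟨⟨U, hU, n, hn, σ, hσ, ha⟩, W, hW, t, hxW, hWl, ht⟩
  choose i W hW t hxW hWl ht using hch
  haveI : IsAffineHom (pullback.fst p g) := MorphismProperty.pullback_fst _ _ inferInstance
  haveI : IsIntegralHom l := by
    refine IsZariskiLocalAtTarget.of_iSup_eq_top (P := @IsIntegralHom) (fun x => pullback.fst p g ⁻¹ᵁ W x)
      (top_le_iff.1 fun z _ => Opens.mem_iSup.2 ⟨pullback.fst p g z, hxW _⟩) fun x => ?_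
    let O := pullback.fst p g ⁻¹ᵁ W x
    have hO : IsAffineOpen O := (hW x).preimage _
    have hpre : (chi (ht x)).opensRange = l ⁻¹ᵁ O := by
      rw [opensRange_chi, ← Scheme.Hom.comp_preimage, pullback.lift_fst]
    have e : ⊤ ≤ (chi (ht x) ≫ l) ⁻¹ᵁ O := fun P _ => hpre.le ⟨P, rfl⟩
    refine (restrict_iff_SpecMap_ev @IsIntegralHom l hO (chi (ht x)) hpre e).2 (IsIntegralHom.SpecMap_iff.2 ?_)
    let ψ := (ev (chi (ht x) ≫ l) O e).hom
    have hWT : W x ≤ p ⁻¹ᵁ (i x).U := (hWl x).trans (loc_le _ _ _)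
    have hC : ∀ c, ψ (((pullback.fst p g).app (W x)).hom c) = Polynomial.C c := fun c => by
      have h1 : ev ((chi (ht x) ≫ l) ≫ pullback.fst p g) (W x) (e.trans le_rfl) c =
          ψ (((pullback.fst p g).appLE (W x) O le_rfl).hom c) := ev_comp_apply _ _ le_rfl e c
      rw [Scheme.Hom.appLE_eq_app] at h1
      rw [← h1, ev_congr (show (chi (ht x) ≫ l) ≫ pullback.fst p g =
        Spec.map (CommRingCat.ofHom Polynomial.C) ≫ (hW x).fromSpec by
          rw [Category.assoc, pullback.lift_fst, chi_π])]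
      refine congr($(ev_SpecMap (CommRingCat.ofHom (Polynomial.C : Γ(X, W x) →+* Γ(X, W x)[X])) (hW x).fromSpec
        (hW x).fromSpec_preimage_self.ge) c).trans ?_
      exact congrArg Polynomial.C congr($(ev_fromSpec (hW x)) c)
    obtain ⟨a, ha⟩ := (ht x).surj (i x).n _ ((i x).hσ (W x) (hW x) hWT)
    have hau : IsUnit a := by
      have hb : W x = X.basicOpen a := by
        rw [← loc_inf_frame hL hLq hA hPL (i x).hn _ (i x).hσ (ht x) hWT ha]
        exact (inf_eq_right.2 (hWl x)).symm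
      have h := isUnit_res_of_eq a le_rfl hb
      rwa [show (X.presheaf.map (homOfLE (le_refl (W x))).op).hom a = a from congr($(X.presheaf.map_id _) a)] at h
    obtain ⟨s, hs⟩ : ∃ s, ψ s = Polynomial.C a * Polynomial.X ^ (i x).n := by
      have hOU : O ≤ pullback.snd p g ⁻¹ᵁ (g ⁻¹ᵁ (i x).U) := by
        rw [← Scheme.Hom.comp_preimage, ← pullback.condition, Scheme.Hom.comp_preimage]
        exact (pullback.fst p g).preimage_mono hWT
      let el := chartElt p hL hLq hA haug hj0 (i x)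
      refine ⟨((pullback.snd p g).appLE (g ⁻¹ᵁ (i x).U) O hOU).hom el, ?_⟩
      change ev (chi (ht x) ≫ l) O e _ = _
      rw [← ev_comp_apply (pullback.snd p g) (chi (ht x) ≫ l) hOU e el,
        ev_congr (show (chi (ht x) ≫ l) ≫ pullback.snd p g = chi (ht x) ≫ q by
          rw [Category.assoc, pullback.lift_snd]),
        ← ev_chi_sec (ht x) hWT ha]
      have e2 : str p 𝒜 ⁻¹ᵁ (i x).U ≤ q ⁻¹ᵁ (g ⁻¹ᵁ (i x).U) := AffAlgBij.le_preimage q hqg _
      rw [ev_comp_apply q (chi (ht x)) e2 (top_le_chi (ht x) hWT) el]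
      exact congrArg (ev (chi (ht x)) _ (top_le_chi (ht x) hWT)) (map_app_elt p (str p 𝒜) j0 (comp_str p hj0) _ _)
    refine isIntegral_polynomial ψ (fun c => hC c ▸ ψ.isIntegralElem_map) ?_
    obtain ⟨b, hb⟩ := hau.exists_left_inv
    refine ⟨Polynomial.X ^ (i x).n - Polynomial.C (((pullback.fst p g).app (W x)).hom b * s),
      Polynomial.monic_X_pow_sub_C _ (i x).hn.ne', ?_⟩
    rw [Polynomial.eval₂_sub, Polynomial.eval₂_X_pow, Polynomial.eval₂_C, sub_eq_zero]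
    change _ = ψ _
    rw [map_mul, hs, ← mul_assoc]
    change _ = ψ (((pullback.fst p g).app (W x)).hom b) * _ * _
    rw [hC b, ← Polynomial.C_mul, hb, Polynomial.C_1, one_mul]
  have e : l ≫ pullback.snd p g = q := pullback.lift_snd _ _ _
  rw [show coneMap p (str p 𝒜) j0 (comp_str p hj0) = q from rfl, ← e]
  infer_instance

include hL hLq hA haug hj0 in
theorem isProper_coneMap (h : RelAmple.IsRelAmple p L) :
    IsProper (coneMap p (str p 𝒜) j0 (comp_str p hj0)) := by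
  haveI := universallyClosed_coneMap hL hLq hA haug hj0 p h
  haveI := locallyOfFiniteType_π hL hLq hA
  haveI : LocallyOfFiniteType
      (coneMap p (str p 𝒜) j0 (comp_str p hj0) ≫ coneProj p (str p 𝒜) j0 (comp_str p hj0)) := by
    rw [coneMap_proj]; infer_instance
  haveI : LocallyOfFiniteType (coneMap p (str p 𝒜) j0 (comp_str p hj0)) :=
    locallyOfFiniteType_of_comp _ (coneProj p (str p 𝒜) j0 (comp_str p hj0))
  haveI : IsSeparated
      (coneMap p (str p 𝒜) j0 (comp_str p hj0) ≫ coneProj p (str p 𝒜) j0 (comp_str p hj0)) := by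
    rw [coneMap_proj]; infer_instance
  haveI : IsSeparated (coneMap p (str p 𝒜) j0 (comp_str p hj0)) :=
    IsSeparated.of_comp _ (coneProj p (str p 𝒜) j0 (comp_str p hj0))
  exact ⟨⟩

include hL hLq hA haug hj0 in
theorem range_contraction (h : RelAmple.IsRelAmple p L) (V0 : 𝒜.toQCAlg.spec.Opens)
    (hV0 : (V0 : Set 𝒜.toQCAlg.spec) = (Set.range j0.base)ᶜ) :
    Set.range (V0.ι ≫ coneMap p (str p 𝒜) j0 (comp_str p hj0)).base =
      (Set.range (coneVertex p (str p 𝒜) j0 (comp_str p hj0)).base)ᶜ := by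
  haveI := universallyClosed_coneMap hL hLq hA haug hj0 p h
  let C := Cn p hj0
  let g := coneProj p (str p 𝒜) j0 (comp_str p hj0)
  let q := coneMap p (str p 𝒜) j0 (comp_str p hj0)
  let ε := coneVertex p (str p 𝒜) j0 (comp_str p hj0)
  have hdis := (contraction p hL hLq hA haug hj0 h V0 hV0).2.2
  refine Set.Subset.antisymm (fun c hc hc' => (Set.eq_empty_iff_forall_notMem.1 hdis c) ⟨hc, hc'⟩) fun c hc => ?_
  suffices hq : c ∈ Set.range q.base by
    obtain ⟨v, rfl⟩ := hq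
    refine ⟨⟨v, hV0.ge fun hv => hc ?_⟩, rfl⟩
    obtain ⟨x, rfl⟩ := hv
    exact ⟨p x, (congr($(comp_coneMap p (str p 𝒜) j0 (comp_str p hj0)) x)).symm⟩
  obtain ⟨U, hU, hcU, -⟩ := exists_isAffineOpen_mem_and_subset (X := Y) (x := g c) (U := ⊤) trivial
  have hO : IsAffineOpen (g ⁻¹ᵁ U) := hU.preimage g
  have eε : (𝟙 Y : Y ⟶ Y) ⁻¹ᵁ U ≤ ε ⁻¹ᵁ (g ⁻¹ᵁ U) := AffAlgBij.le_preimage _ (coneVertex_proj _ _ _ _) U
  have eq' : str p 𝒜 ⁻¹ᵁ U ≤ q ⁻¹ᵁ (g ⁻¹ᵁ U) := AffAlgBij.le_preimage _ (coneMap_proj _ _ _ _) U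
  obtain ⟨z, hzc, hz0⟩ : ∃ z : Γ(C, g ⁻¹ᵁ U), c ∈ C.basicOpen z ∧ (ε.appLE _ _ eε).hom z = 0 := by
    by_contra hall
    push Not at hall
    obtain ⟨P, rfl⟩ : c ∈ Set.range hO.fromSpec.base := by rw [hO.range_fromSpec]; exact hcU
    have hsurj : Function.Surjective (ε.appLE _ _ eε).hom := fun a =>
      ⟨elt p (str p 𝒜) j0 (comp_str p hj0) U ((pairsStr p (str p 𝒜) j0 (comp_str p hj0)).app (op U) a),
        vertex_app_elt p (str p 𝒜) j0 (comp_str p hj0) U _⟩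
    obtain ⟨Q, hQ⟩ : P ∈ Set.range (PrimeSpectrum.comap (ε.appLE _ _ eε).hom) := by
      rw [range_comap_of_surjective _ _ hsurj]
      intro z hz
      by_contra hzP
      exact hall z ((fromSpec_mem_basicOpen hO z P).2 hzP) hz
    refine hc ⟨hU.fromSpec Q, ?_⟩
    have hc2 := congr($(IsAffineOpen.SpecMap_appLE_fromSpec ε hO hU eε) Q)
    exact (congrArg hO.fromSpec hQ).symm.trans hc2 |>.symm
  by_contra hq
  let N : C.Opens := ⟨(Set.range q.base)ᶜ, q.isClosedMap.isClosed_range.isOpen_compl⟩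
  obtain ⟨f, hfN, hcf⟩ := hO.exists_basicOpen_le (V := N) ⟨c, hq⟩ hcU
  let e := f * z
  have hce : c ∈ C.basicOpen e := by rw [Scheme.basicOpen_mul]; exact ⟨hcf, hzc⟩
  have hbot : 𝒜.toQCAlg.spec.basicOpen ((q.appLE _ _ eq').hom e) = ⊥ := by
    rw [Scheme.basicOpen_appLE]
    refine le_bot_iff.1 fun v hv => ?_
    have h1 : q v ∈ C.basicOpen f := by
      have h2 : q v ∈ C.basicOpen e := hv.2
      rw [Scheme.basicOpen_mul] at h2
      exact h2.1
    exact (hfN h1 ⟨v, rfl⟩ : False)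
  obtain ⟨k, hk⟩ := (Scheme.isNilpotent_iff_basicOpen_eq_bot_of_isCompact
    ((str p 𝒜).isCompact_preimage hU.isCompact) _).2 hbot
  obtain ⟨x, hx⟩ := elt_surjective p (str p 𝒜) j0 (comp_str p hj0) U (e ^ (k + 1))
  have hε : (ε.appLE _ _ eε).hom (e ^ (k + 1)) = 0 := by
    rw [map_pow, map_mul, hz0, mul_zero, zero_pow (Nat.succ_ne_zero k)]
  have h1 : x.1.1 = 0 := by
    rw [← vertex_app_elt p (str p 𝒜) j0 (comp_str p hj0) U x, hx]
    exact hε
  have h2 : x.1.2 = 0 := by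
    rw [← map_app_elt p (str p 𝒜) j0 (comp_str p hj0) U x, hx]
    exact (map_pow _ _ _).trans (by rw [pow_succ, hk, zero_mul])
  have he : e ^ (k + 1) = 0 := by
    rw [← hx, show x = 0 from Subtype.ext (Prod.ext h1 h2)]
    exact map_zero _
  have hcp : c ∈ C.basicOpen (e ^ (k + 1)) := by rwa [C.basicOpen_pow e (Nat.succ_pos k)]
  rw [he, Scheme.basicOpen_zero] at hcp
  exact hcp

end Groth.Agent.Lib.Contraction
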